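import Groth.Agent.L21.RefK.Basic
import Mathlib.Data.Finset.Sort
import Mathlib.Data.Fintype.Powerset

/-!
Alternating sums of twists are products `(1 - [M₀])(1 - [M₁]) ⋯`.
-/

set_option autoImplicit false
set_option linter.style.haveILetI false
set_option backward.isDefEq.respectTransparency false
set_option backward.isDefEq.respectTransparency.types false

universe u

open CategoryTheory CategoryTheory.Limits AlgebraicGeometry Groth.L22.LatDeg

noncomputable section

namespace Groth.L21.RefK

theorem sort_map_succ {r : ℕ} (J : Finset (Fin r)) :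
    (J.map (Fin.succEmb r)).sort (· ≤ ·) = (J.sort (· ≤ ·)).map Fin.succ := by
  refine List.Perm.eq_of_pairwise' (r := (· ≤ ·)) (Finset.pairwise_sort _ _)
    ((Finset.pairwise_sort J _).map Fin.succ fun a b h => Fin.succ_le_succ_iff.2 h) ?_
  refine (List.perm_ext_iff_of_nodup (Finset.sort_nodup _ _)
    ((Finset.sort_nodup _ _).map (Fin.succ_injective r))).2 fun a => ?_
  simp [Fin.succEmb]

theorem sort_insert_zero {r : ℕ} (J : Finset (Fin r)) :
    (insert 0 (J.map (Fin.succEmb r))).sort (· ≤ ·) = 0 :: (J.sort (· ≤ ·)).map Fin.succ := by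
  rw [Finset.sort_insert (· ≤ ·) (fun b _ => Fin.zero_le b) (by simp [Fin.succEmb, Fin.succ_ne_zero]), sort_map_succ]

theorem sum_finset_fin_succ {r : ℕ} {G : Type*} [AddCommMonoid G] (f : Finset (Fin (r + 1)) → G) :
    ∑ I, f I = (∑ J : Finset (Fin r), f (J.map (Fin.succEmb r))) +
      ∑ J : Finset (Fin r), f (insert 0 (J.map (Fin.succEmb r))) := by
  classical
  rw [← Finset.powerset_univ, Fin.univ_succ, Finset.cons_eq_insert,
    Finset.sum_powerset_insert (by simp)]
  rw [show (Finset.univ : Finset (Fin r)).map ⟨Fin.succ, Fin.succ_injective r⟩ =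
    Finset.univ.map (Fin.succEmb r) from rfl,
    show ((Finset.univ : Finset (Fin r)).map (Fin.succEmb r)).powerset =
      (Finset.univ : Finset (Finset (Fin r))).map ⟨Finset.map (Fin.succEmb r), Finset.map_injective _⟩ from
      Finset.ext fun t => by simp [Finset.subset_map_iff, eq_comm]]
  simp only [Finset.sum_map]
  rfl

variable {X : Scheme.{u}} [IsLocallyNoetherian X] [IsIntegral X] {δ : X → ℤ} {n b : ℤ}

omit [IsLocallyNoetherian X] [IsIntegral X] in
theorem isInvertible_tensorList : ∀ (l : List X.Modules), (∀ M ∈ l, PicF.IsInvertible M) →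
    PicF.IsInvertible (FGA.tensorList l)
  | [], _ => Groth.L18.Ample.isInvertible_structureModule X
  | M :: l, h => Groth.L18.GenLoc.isInvertible_tensor (h M List.mem_cons_self)
      (isInvertible_tensorList l fun N hN => h N (List.mem_cons_of_mem M hN))

/-- Alternating sums of twists. -/
theorem alt_sum_eq (hn : ∀ x, δ x ≤ n) : ∀ {r : ℕ} (M : Fin r → X.Modules) (hM : ∀ i, PicF.IsInvertible (M i))
    {A : X.Modules} (_ : Coh.IsCoh A),
    ∑ I : Finset (Fin r), ((-1 : ℤ) ^ I.card) •
        Cyc.toK0CohQuot δ n b (CohB1.tensorMod (FGA.tensorList ((I.sort (· ≤ ·)).map M)) A) =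
      prodD M hM (Cyc.toK0CohQuot δ n b A)
  | 0, M, hM, A, hA => by
    rw [Fintype.sum_subsingleton _ (∅ : Finset (Fin 0))]
    simp only [Finset.card_empty, pow_zero, one_smul, Finset.sort_empty, List.map_nil, FGA.tensorList, prodD,
      AddMonoidHom.id_apply]
    exact toK0_iso (Groth.L00.Tensor.tensorUnitLeft A)
      ⟨Groth.L15.Ref.isCoh_tensorMod (Groth.L16.ProperFinite.isCoh_of_isInvertible
        (Groth.L18.Ample.isInvertible_structureModule X)) hA, fun x _ => hn x⟩
  | r + 1, M, hM, A, hA => by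
    rw [sum_finset_fin_succ, prodD, AddMonoidHom.comp_apply, ← alt_sum_eq hn (fun i => M i.succ) (fun i => hM i.succ) hA,
      map_sum, ← Finset.sum_add_distrib]
    refine Finset.sum_congr rfl fun J _ => ?_
    have hJ : ∀ N ∈ (J.sort (· ≤ ·)).map (fun i => M i.succ), PicF.IsInvertible N := fun N hN => by
      obtain ⟨i, -, rfl⟩ := List.mem_map.1 hN
      exact hM i.succ
    have hJc : Cyc.CohLe δ n (CohB1.tensorMod (FGA.tensorList ((J.sort (· ≤ ·)).map fun i => M i.succ)) A) :=
      ⟨Groth.L15.Ref.isCoh_tensorMod (Groth.L16.ProperFinite.isCoh_of_isInvertible (isInvertible_tensorList _ hJ)) hA,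
        fun x _ => hn x⟩
    rw [map_zsmul, dQ, AddMonoidHom.sub_apply, AddMonoidHom.id_apply, twQ_toK0 (hM 0) hJc, zsmul_sub,
      Finset.card_map, sort_map_succ, List.map_map, Finset.card_insert_of_notMem
        (by simp [Fin.succEmb, Fin.succ_ne_zero]), Finset.card_map, pow_succ, sort_insert_zero, List.map_cons,
      List.map_map]
    rw [mul_neg, mul_one, neg_smul, sub_eq_add_neg]
    refine congrArg₂ (fun P Q => (-1 : ℤ) ^ J.card • P + -((-1 : ℤ) ^ J.card • Q)) rfl ?_
    refine toK0_iso (Groth.L00.Tensor.tensorAssoc _ _ _) ⟨Groth.L15.Ref.isCoh_tensorMod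
      (Groth.L16.ProperFinite.isCoh_of_isInvertible (isInvertible_tensorList _ fun N hN => ?_)) hA, fun x _ => hn x⟩
    rcases List.mem_cons.1 hN with rfl | hN
    · exact hM 0
    · exact hJ N hN

end Groth.L21.RefK
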