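import Groth.Agent.L21.RefK.FrobClass
import Groth.Agent.L03.Reflexive
import Groth.Agent.L05.Henselization.Noeth
import Groth.Agent.L22.SymCorr.Move
import Groth.Prelude.Def_RefFun

/-!
Reflexive Frobenius pullbacks along flat morphisms.
-/

set_option autoImplicit false
set_option linter.style.haveILetI false
set_option backward.isDefEq.respectTransparency false
set_option backward.isDefEq.respectTransparency.types false

universe u

open CategoryTheory CategoryTheory.Limits AlgebraicGeometry TopologicalSpace Opposite TensorProduct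

noncomputable section

namespace Groth.L21.RefK

variable {Y X : Scheme.{u}}

/-- Reflexivity is preserved by flat pullback. -/
theorem isReflexive_pullback [IsIntegral X] [IsLocallyNoetherian X] [IsIntegral Y] [IsLocallyNoetherian Y]
    (π : Y ⟶ X) [Flat π] {G : X.Modules} (hG : Coh.IsCoh G) (hr : RefHull.IsReflexive G) :
    RefHull.IsReflexive ((Scheme.Modules.pullback π).obj G) := by
  refine (Groth.L15.Ref.isReflexive_iff_stalks (Groth.L16.AffineBC.isCoh_pullback π hG)).2 fun y => ?_
  letI : Algebra (X.presheaf.stalk (π y)) (Y.presheaf.stalk y) := (π.stalkMap y).hom.toAlgebra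
  haveI : Module.Flat (X.presheaf.stalk (π y)) (Y.presheaf.stalk y) := Flat.stalkMap π y
  haveI := Groth.L15.Ref.finite_stalk hG (π y)
  haveI : Module.IsReflexive (X.presheaf.stalk (π y)) (G.presheaf.stalk (π y)) :=
    (Groth.L15.Ref.isReflexive_iff_stalks hG).1 hr (π y)
  haveI : Module.IsReflexive (Y.presheaf.stalk y) (Y.presheaf.stalk y ⊗[X.presheaf.stalk (π y)] G.presheaf.stalk (π y)) :=
    Groth.L03.Reflexive.isReflexive_tensor (G.presheaf.stalk (π y))
  let e : ((Scheme.Modules.pullback π).obj G).presheaf.stalk y ≃ₗ[Y.presheaf.stalk y]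
      Y.presheaf.stalk y ⊗[X.presheaf.stalk (π y)] G.presheaf.stalk (π y) :=
    ((Groth.L00.PullStalk.stalkIso π y).app G).toLinearEquiv
  exact Module.equiv e.symm

/-- A free stalk pulls back to a free stalk. -/
theorem free_stalk_pullback (π : Y ⟶ X) (G : X.Modules) (y : Y)
    (h : Module.Free (X.presheaf.stalk (π y)) (G.presheaf.stalk (π y))) :
    Module.Free (Y.presheaf.stalk y) (((Scheme.Modules.pullback π).obj G).presheaf.stalk y) := by
  letI : Algebra (X.presheaf.stalk (π y)) (Y.presheaf.stalk y) := (π.stalkMap y).hom.toAlgebra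
  haveI := h
  let e : ((Scheme.Modules.pullback π).obj G).presheaf.stalk y ≃ₗ[Y.presheaf.stalk y]
      Y.presheaf.stalk y ⊗[X.presheaf.stalk (π y)] G.presheaf.stalk (π y) :=
    ((Groth.L00.PullStalk.stalkIso π y).app G).toLinearEquiv
  exact Module.Free.of_equiv e.symm

/-- A map bijective at a point pulls back to a map bijective above it. -/
theorem isIso_map_pullback_stalk (π : Y ⟶ X) {F G : X.Modules} (φ : F ⟶ G) (y : Y)
    (h : IsIso ((Groth.L00.Stk.F X (π y)).map φ)) :
    IsIso ((Groth.L00.Stk.F Y y).map ((Scheme.Modules.pullback π).map φ)) := by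
  haveI := h
  exact (NatIso.isIso_map_iff (Groth.L00.PullStalk.stalkIso π y) φ).2
    (Functor.map_isIso (ModuleCat.extendScalars (Groth.L00.PullStalk.φ π y)) ((Groth.L00.Stk.F X (π y)).map φ))

/-- Stalks of dimension at most one of a normal scheme are principal ideal rings. -/
theorem isPID_stalk_of_dim_le [IsLocallyNoetherian X] (hX : Pi1.IsNormalScheme X) (x : X)
    (h : ringKrullDim (X.presheaf.stalk x) ≤ 1) : IsPrincipalIdealRing (X.presheaf.stalk x) := by
  haveI := (hX x).1
  haveI := (hX x).2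
  haveI : Ring.KrullDimLE 1 (X.presheaf.stalk x) := Ring.krullDimLE_iff.2 h
  exact Groth.L22.SymCorr.exists_generator

theorem ringKrullDim_le_of_flat (π : Y ⟶ X) [Flat π] (y : Y) :
    ringKrullDim (X.presheaf.stalk (π y)) ≤ ringKrullDim (Y.presheaf.stalk y) := by
  letI : Algebra (X.presheaf.stalk (π y)) (Y.presheaf.stalk y) := (π.stalkMap y).hom.toAlgebra
  haveI : Module.Flat (X.presheaf.stalk (π y)) (Y.presheaf.stalk y) := Flat.stalkMap π y
  haveI : IsLocalHom (algebraMap (X.presheaf.stalk (π y)) (Y.presheaf.stalk y)) := π.toLRSHom.prop y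
  haveI : Module.FaithfullyFlat (X.presheaf.stalk (π y)) (Y.presheaf.stalk y) :=
    Module.FaithfullyFlat.of_flat_of_isLocalHom
  exact Groth.L05.Henselization.le_ringKrullDim_of_faithfullyFlat _ _

variable [IsIntegral X] [IsLocallyNoetherian X]

/-- A map of reflexive modules bijective in codimension at most one is an isomorphism. -/
theorem isIso_of_codim_le_one (hX : Pi1.IsNormalScheme X) {F G : X.Modules} (hF : Coh.IsCoh F)
    (hFr : RefHull.IsReflexive F) (hG : Coh.IsCoh G) (hGr : RefHull.IsReflexive G) (ψ : F ⟶ G)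
    (h : ∀ z : X, z = genericPoint X ∨ Order.coheight z = 1 → IsIso ((Groth.L00.Stk.F X z).map ψ)) :
    IsIso ψ := by
  haveI : Coh.IsQCoh F := hF.1
  haveI : Coh.IsQCoh G := hG.1
  have hb : ∀ z : X, z = genericPoint X ∨ Order.coheight z = 1 → Function.Bijective (RefHull.stalkMapₗ ψ z) :=
    fun z hz => (ConcreteCategory.isIso_iff_bijective _).1 (h z hz)
  refine (Groth.L21.Mod.isIso_iff_stalk_bijective ψ).2 fun x => ?_
  show Function.Bijective (RefHull.stalkMapₗ ψ x)
  haveI := Groth.L15.Ref.isTorsionFree_stalk hF hFr x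
  haveI := Groth.L15.Ref.isTorsionFree_stalk hG hGr x
  refine ⟨(injective_iff_map_eq_zero _).2 fun v hv => ?_, fun w => ?_⟩
  · refine Groth.L15.Ref.toEta_injective x ((hb _ (Or.inl rfl)).1 ?_)
    have h' := Groth.L15.Ref.toEta_stalkMapₗ ψ x v
    rw [hv, map_zero] at h'
    rw [map_zero, map_zero]
    exact h'.symm
  · obtain ⟨v, hv⟩ := (hb _ (Or.inl rfl)).2 (Groth.L15.Ref.toEta G x w)
    obtain ⟨u, hu⟩ := Groth.L15.Ref.mem_range_toEta hX hF hFr x v fun z hz hc => by
      obtain ⟨a, ha⟩ := (hb z (Or.inr hc)).2 (G.presheaf.stalkSpecializes hz w)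
      refine ⟨a, (hb _ (Or.inl rfl)).1 ?_⟩
      rw [← Groth.L15.Ref.toEta_stalkMapₗ, ha, Groth.L15.Ref.toEta_specializes, hv]
    refine ⟨u, Groth.L15.Ref.toEta_injective x ?_⟩
    rw [Groth.L15.Ref.toEta_stalkMapₗ, hu, hv]

variable [IsIntegral Y] [IsLocallyNoetherian Y] (p : ℕ) [Fact p.Prime] [FrobSch.IsCharP X p] [FrobSch.IsCharP Y p]

/-- Reflexive Frobenius pullbacks commute with flat pullback between normal schemes. -/
theorem nonempty_frobStep_pullback (π : Y ⟶ X) [Flat π] (hX : Pi1.IsNormalScheme X) (hY : Pi1.IsNormalScheme Y)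
    {G G' : X.Modules} (hG : Coh.IsCoh G) (hr : RefHull.IsReflexive G)
    (j : G' ≅ RefHull.ddual ((Scheme.Modules.pullback (FrobSch.frob X p)).obj G))
    {H H' : Y.Modules} (i : H ≅ (Scheme.Modules.pullback π).obj G)
    (j' : H' ≅ RefHull.ddual ((Scheme.Modules.pullback (FrobSch.frob Y p)).obj H)) :
    Nonempty (H' ≅ (Scheme.Modules.pullback π).obj G') := by
  let fX := FrobSch.frob X p
  let fY := FrobSch.frob Y p
  let P := (Scheme.Modules.pullback fX).obj G
  have hP : Coh.IsCoh P := Groth.L16.AffineBC.isCoh_pullback fX hG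
  have hPd := Groth.L15.Ref.isCoh_dual (Groth.L15.Ref.isCoh_dual hP)
  have hG' : Coh.IsCoh G' := Groth.L14.Quot.isCoh_of_iso j.symm hPd
  have hr' : RefHull.IsReflexive G' := isReflexive_of_iso j.symm hPd (Groth.L15.Ref.isReflexive_ddual hP)
  let c : (Scheme.Modules.pullback fY).obj ((Scheme.Modules.pullback π).obj G) ≅ (Scheme.Modules.pullback π).obj P :=
    (Scheme.Modules.pullbackComp fY π).app G ≪≫ (Scheme.Modules.pullbackCongr (FrobSch.frob_comp p π)).app G ≪≫
      ((Scheme.Modules.pullbackComp π fX).app G).symm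
  let R := (Scheme.Modules.pullback π).obj G'
  let ψ : (Scheme.Modules.pullback π).obj P ⟶ R := (Scheme.Modules.pullback π).map (RefHull.bidualMap P ≫ j.inv)
  have hQ : Coh.IsCoh ((Scheme.Modules.pullback π).obj P) := Groth.L16.AffineBC.isCoh_pullback π hP
  have hR : Coh.IsCoh R := Groth.L16.AffineBC.isCoh_pullback π hG'
  have hRr : RefHull.IsReflexive R := isReflexive_pullback π hG' hr'
  haveI : IsIso (RefHull.bidualMap R) := hRr
  haveI : IsIso (RefFun.ddualMap ψ) := by
    refine isIso_of_codim_le_one hY (Groth.L15.Ref.isCoh_dual (Groth.L15.Ref.isCoh_dual hQ))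
      (Groth.L15.Ref.isReflexive_ddual hQ) (Groth.L15.Ref.isCoh_dual (Groth.L15.Ref.isCoh_dual hR))
      (Groth.L15.Ref.isReflexive_ddual hR) _ fun y hy => ?_
    have hdy : ringKrullDim (Y.presheaf.stalk y) ≤ 1 := by
      rcases hy with rfl | hy
      · rw [ringKrullDim_eq_zero_of_isField (Field.toIsField Y.functionField)]
        exact zero_le_one
      · exact ((Groth.L15.Ref.coheight_eq_one_iff y).2 hy).le
    haveI := isPID_stalk_of_dim_le hX (π y) ((ringKrullDim_le_of_flat π y).trans hdy)
    have h1 : IsIso ((Groth.L00.Stk.F Y y).map ψ) := by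
      refine isIso_map_pullback_stalk π _ y ?_
      haveI := isIso_bidual_stalk hP (π y) (free_stalk_frob p hG hr (π y))
      rw [Functor.map_comp]
      infer_instance
    haveI := h1
    haveI := isIso_bidual_stalk hQ y (free_stalk_pullback π P y (free_stalk_frob p hG hr (π y)))
    haveI : IsIso ((Groth.L00.Stk.F Y y).map (RefHull.bidualMap R)) := Functor.map_isIso _ _
    have hn := congrArg (Groth.L00.Stk.F Y y).map (RefFun.bidualMap_naturality ψ)
    rw [Functor.map_comp, Functor.map_comp] at hn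
    haveI : IsIso ((Groth.L00.Stk.F Y y).map (RefHull.bidualMap ((Scheme.Modules.pullback π).obj P)) ≫
        (Groth.L00.Stk.F Y y).map (RefFun.ddualMap ψ)) := by rw [hn]; infer_instance
    exact IsIso.of_isIso_comp_left ((Groth.L00.Stk.F Y y).map (RefHull.bidualMap ((Scheme.Modules.pullback π).obj P))) _
  exact ⟨j' ≪≫ RefFun.ddualIso ((Scheme.Modules.pullback fY).mapIso i ≪≫ c) ≪≫
    asIso (RefFun.ddualMap ψ) ≪≫ (asIso (RefHull.bidualMap R)).symm⟩

end Groth.L21.RefK
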