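import Groth.Agent.S1955
import Groth.Agent.L22.LatDeg.K0Op
import Groth.Agent.L29.K.Sub
import Groth.Agent.L21.RR.Twist
import Groth.Agent.L21.RR.IdealTwist
import Groth.Agent.L15.Ref.Tensor
import Groth.Prelude.Def_FGA

/-!
The dimension filtration on `K₀` of coherent modules, twists and alternating sums.
-/

set_option autoImplicit false
set_option linter.style.haveILetI false
set_option backward.isDefEq.respectTransparency false
set_option backward.isDefEq.respectTransparency.types false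

universe u

open CategoryTheory CategoryTheory.Limits AlgebraicGeometry Groth.L22.LatDeg

noncomputable section

namespace Groth.L21.RefK

variable {X : Scheme.{u}} (δ : X → ℤ) (n b : ℤ)

/-- Classes in `K₀(Coh_{≤ n}) / Coh_{≤ b}` coming from dimension at most `m`. -/
def Fil (m : ℤ) : AddSubgroup (Cyc.K0CohQuot δ n b) :=
  AddSubgroup.closure {c | ∃ G : X.Modules, Cyc.CohLe δ m G ∧ c = Cyc.toK0CohQuot δ n b G}

variable {δ n b}

theorem cohLe_mono {a c : ℤ} (h : a ≤ c) {F : X.Modules} (hF : Cyc.CohLe δ a F) : Cyc.CohLe δ c F :=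
  ⟨hF.1, fun x hx => (hF.2 x hx).trans h⟩

theorem Fil_le_bot {m : ℤ} (h : m ≤ b) : Fil δ n b m = ⊥ := by
  rw [Fil, AddSubgroup.closure_eq_bot_iff]
  rintro _ ⟨G, hG, rfl⟩
  exact toK0_eq_zero (cohLe_mono h hG)

theorem Fil_mono {m m' : ℤ} (h : m ≤ m') : Fil δ n b m ≤ Fil δ n b m' :=
  AddSubgroup.closure_mono fun _ ⟨G, hG, e⟩ => ⟨G, cohLe_mono h hG, e⟩

theorem subsingleton_of_cohLe_neg (h0 : ∀ x : X, 0 ≤ δ x) {G : X.Modules} (hG : Cyc.CohLe δ (-1) G) (x : X) :
    Subsingleton (G.presheaf.stalk x) :=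
  not_nontrivial_iff_subsingleton.1 fun h => by have := hG.2 x h; have := h0 x; omega

variable [IsLocallyNoetherian X]

theorem toK0_iso {A B : X.Modules} (e : A ≅ B) (hA : Cyc.CohLe δ n A) :
    Cyc.toK0CohQuot δ n b A = Cyc.toK0CohQuot δ n b B := by
  have h := toK0_map (b := b) e.hom hA (cohLe_iso e hA)
  rw [toK0_eq_zero (F := cokernel e.hom) (cohLe_of_isZero (isZero_cokernel_of_epi e.hom) b),
    toK0_eq_zero (F := kernel e.hom) (cohLe_of_isZero (isZero_kernel_of_mono e.hom) b), add_zero, add_zero] at h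
  exact h

/-- The class map from `K₀(Coh_{≤ m})`. -/
def incl (m : ℤ) (hm : m ≤ n) : KZero.K0sub (Cyc.CohLe δ m) →+ Cyc.K0CohQuot δ n b :=
  Groth.L29.KSub.lift (Cyc.toK0CohQuot δ n b) fun _ hS h₁ h₂ h₃ =>
    toK0_add hS (cohLe_mono hm h₁) (cohLe_mono hm h₂) (cohLe_mono hm h₃)

omit [IsLocallyNoetherian X] in
theorem incl_clSub {m : ℤ} (hm : m ≤ n) {A : X.Modules} (hA : Cyc.CohLe δ m A) :
    incl (b := b) m hm (KZero.clSub (Cyc.CohLe δ m) A) = Cyc.toK0CohQuot δ n b A :=
  Groth.L29.KSub.lift_clSub _ _ hA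

/-- An element of `K₀(Coh_{≤ m})` vanishing modulo dimension `j` maps into `Fil j`. -/
theorem incl_mem_Fil {m j : ℤ} (hjm : j ≤ m) (hm : m ≤ n) {z : KZero.K0sub (Cyc.CohLe δ m)}
    (hz : (QuotientAddGroup.mk z : Cyc.K0CohQuot δ m j) = 0) : incl (b := b) m hm z ∈ Fil δ n b j := by
  rw [QuotientAddGroup.eq_zero_iff] at hz
  induction hz using AddSubgroup.closure_induction with
  | mem c hc =>
    obtain ⟨F, hF, rfl⟩ := hc
    rw [incl_clSub hm (cohLe_mono hjm hF)]
    exact AddSubgroup.subset_closure ⟨F, hF, rfl⟩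
  | zero => rw [map_zero]; exact zero_mem _
  | add c d _ _ hc hd => rw [map_add]; exact add_mem hc hd
  | neg c _ hc => rw [map_neg]; exact neg_mem hc

/-- Modules with the same multiplicities in dimension `m` agree modulo dimension `m - 1`. -/
theorem sub_mem_Fil_of_sheafFun_eq (hδ : Cyc.IsSetup X δ) {m : ℤ} (hm : m ≤ n) {A B : X.Modules}
    (hA : Cyc.CohLe δ m A) (hB : Cyc.CohLe δ m B) (h : Cyc.sheafFun δ m A = Cyc.sheafFun δ m B) :
    Cyc.toK0CohQuot δ n b A - Cyc.toK0CohQuot δ n b B ∈ Fil δ n b (m - 1) := by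
  obtain ⟨ψ, hψ, hinj, -⟩ := Groth.Agent.S1955.result X δ hδ m
  have h1 : (QuotientAddGroup.mk (KZero.clSub (Cyc.CohLe δ m) A - KZero.clSub (Cyc.CohLe δ m) B) :
      Cyc.K0CohQuot δ m (m - 1)) = 0 := by
    rw [QuotientAddGroup.mk_sub, sub_eq_zero]
    refine hinj ?_
    change ψ (Cyc.toK0CohQuot δ m (m - 1) A) = ψ (Cyc.toK0CohQuot δ m (m - 1) B)
    rw [hψ A hA, hψ B hB, h]
  have h2 := incl_mem_Fil (b := b) (show m - 1 ≤ m by omega) hm h1
  rwa [map_sub, incl_clSub hm hA, incl_clSub hm hB] at h2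

/-- `G` has stalks free of rank one in dimension at least `m`. -/
def FreeFrom (δ : X → ℤ) (m : ℤ) (G : X.Modules) : Prop :=
  ∀ x : X, m ≤ δ x → ∃ e : G.presheaf.stalk x, Function.Bijective fun a : X.presheaf.stalk x => a • e

omit [IsLocallyNoetherian X] in
theorem freeFrom_of_isInvertible {G : X.Modules} (hG : PicF.IsInvertible G) (m : ℤ) : FreeFrom δ m G :=
  fun x _ => Groth.L21.RR.exists_frame_stalk hG x

variable [IsIntegral X]

omit [IsLocallyNoetherian X] [IsIntegral X] in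
theorem cohLe_tensor {G A : X.Modules} (hG : Coh.IsCoh G) {m : ℤ} (hA : Cyc.CohLe δ m A) :
    Cyc.CohLe δ m (CohB1.tensorMod G A) := by
  refine ⟨Groth.L15.Ref.isCoh_tensorMod hG hA.1, fun x hx => hA.2 x ?_⟩
  by_contra hn
  haveI : Subsingleton (A.presheaf.stalk x) := not_nontrivial_iff_subsingleton.1 hn
  haveI : Subsingleton ((CohB1.tensorMod G A).presheaf.stalk x) :=
    (Groth.L15.Ref.τE G A x).symm.toEquiv.subsingleton
  exact not_nontrivial _ hx

omit [IsLocallyNoetherian X] [IsIntegral X] in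
theorem sheafFun_tensor {G A : X.Modules} {m : ℤ} (hf : FreeFrom δ m G) :
    Cyc.sheafFun δ m (CohB1.tensorMod G A) = Cyc.sheafFun δ m A := by
  funext x
  simp only [Cyc.sheafFun]
  split_ifs with hx
  · rw [(Groth.L21.RR.tensorStalkEquiv A (hf x hx.ge).choose_spec).length_eq]
  · rfl

theorem tensor_sub_mem_Fil (hδ : Cyc.IsSetup X δ) {G A : X.Modules} {m : ℤ} (hm : m ≤ n) (hG : Coh.IsCoh G)
    (hf : FreeFrom δ m G) (hA : Cyc.CohLe δ m A) :
    Cyc.toK0CohQuot δ n b (CohB1.tensorMod G A) - Cyc.toK0CohQuot δ n b A ∈ Fil δ n b (m - 1) :=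
  sub_mem_Fil_of_sheafFun_eq hδ hm (cohLe_tensor hG hA) hA (sheafFun_tensor hf)

omit [IsLocallyNoetherian X] [IsIntegral X] in
theorem subsingleton_kernel_stalk {A B : X.Modules} (φ : A ⟶ B) (x : X)
    (h : Function.Injective ((Groth.L00.Stk.F X x).map φ).hom) :
    Subsingleton ((kernel φ).presheaf.stalk x) := by
  haveI : PreservesFiniteLimits (Groth.L00.Stk.F X x) := inferInstance
  have hi : Function.Injective ((Groth.L00.Stk.F X x).map (kernel.ι φ)).hom :=
    (ModuleCat.mono_iff_injective _).1 inferInstance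
  have h0 : ∀ v, ((Groth.L00.Stk.F X x).map φ).hom (((Groth.L00.Stk.F X x).map (kernel.ι φ)).hom v) = 0 :=
    fun v => by
      rw [← LinearMap.comp_apply, ← ModuleCat.hom_comp, ← Functor.map_comp, kernel.condition, Functor.map_zero]
      rfl
  exact ⟨fun v w => hi (h ((h0 v).trans (h0 w).symm))⟩

omit [IsLocallyNoetherian X] [IsIntegral X] in
theorem subsingleton_cokernel_stalk {A B : X.Modules} (φ : A ⟶ B) (x : X)
    (h : Function.Surjective ((Groth.L00.Stk.F X x).map φ).hom) :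
    Subsingleton ((cokernel φ).presheaf.stalk x) := by
  have hp : Function.Surjective ((Groth.L00.Stk.F X x).map (cokernel.π φ)).hom :=
    (ModuleCat.epi_iff_surjective _).1 inferInstance
  have h0 : ∀ v, ((Groth.L00.Stk.F X x).map (cokernel.π φ)).hom v = 0 := fun v => by
    obtain ⟨w, rfl⟩ := h v
    rw [← LinearMap.comp_apply, ← ModuleCat.hom_comp, ← Functor.map_comp, cokernel.condition, Functor.map_zero]
    rfl
  refine ⟨fun v w => ?_⟩
  obtain ⟨v, rfl⟩ := hp v
  obtain ⟨w, rfl⟩ := hp w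
  rw [h0, h0]

omit [IsLocallyNoetherian X] [IsIntegral X] in
theorem cohLe_of_stalks {A : X.Modules} (hA : Coh.IsCoh A)
    (h : ∀ x, b < δ x → Subsingleton (A.presheaf.stalk x)) : Cyc.CohLe δ b A :=
  ⟨hA, fun x hx => le_of_not_gt fun hlt => not_subsingleton_iff_nontrivial.2 hx (h x hlt)⟩

omit [IsIntegral X] in
/-- A map bijective above dimension `b` identifies classes. -/
theorem toK0_eq_of_bijective {A B : X.Modules} (φ : A ⟶ B) (hA : Cyc.CohLe δ n A) (hB : Cyc.CohLe δ n B)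
    (h : ∀ x, b < δ x → Function.Bijective ((Groth.L00.Stk.F X x).map φ).hom) :
    Cyc.toK0CohQuot δ n b A = Cyc.toK0CohQuot δ n b B := by
  have e := toK0_map (b := b) φ hA hB
  rw [toK0_eq_zero (F := cokernel φ) (cohLe_of_stalks (cohLe_cokernel hA hB φ).1 fun x hx =>
      subsingleton_cokernel_stalk φ x (h x hx).2),
    toK0_eq_zero (F := kernel φ) (cohLe_of_stalks (cohLe_kernel hA hB φ).1 fun x hx =>
      subsingleton_kernel_stalk φ x (h x hx).1), add_zero, add_zero] at e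
  exact e

omit [IsIntegral X] in
/-- Classes add in a complex which is short exact above dimension `b`. -/
theorem toK0_eq_add_of_stalks {A B C : X.Modules} (f : A ⟶ B) (g : B ⟶ C) (hfg : f ≫ g = 0)
    (hA : Cyc.CohLe δ n A) (hB : Cyc.CohLe δ n B) (hC : Cyc.CohLe δ n C)
    (h : ∀ x, b < δ x → Function.Injective ((Groth.L00.Stk.F X x).map f).hom ∧
      Function.Surjective ((Groth.L00.Stk.F X x).map g).hom ∧
      ∀ v, ((Groth.L00.Stk.F X x).map g).hom v = 0 → v ∈ LinearMap.range ((Groth.L00.Stk.F X x).map f).hom) :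
    Cyc.toK0CohQuot δ n b B = Cyc.toK0CohQuot δ n b A + Cyc.toK0CohQuot δ n b C := by
  let q : cokernel f ⟶ C := cokernel.desc f g hfg
  have hq : cokernel.π f ≫ q = g := cokernel.π_desc f g hfg
  have e1 := toK0_map (b := b) f hA hB
  rw [toK0_eq_zero (F := kernel f) (cohLe_of_stalks (cohLe_kernel hA hB f).1 fun x hx =>
    subsingleton_kernel_stalk f x (h x hx).1), add_zero] at e1
  have e2 : Cyc.toK0CohQuot δ n b (cokernel f) = Cyc.toK0CohQuot δ n b C := by
    refine toK0_eq_of_bijective q (cohLe_cokernel hA hB f) hC fun x hx => ?_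
    obtain ⟨-, h2, h3⟩ := h x hx
    have hp : Function.Surjective ((Groth.L00.Stk.F X x).map (cokernel.π f)).hom :=
      (ModuleCat.epi_iff_surjective _).1 inferInstance
    have hg : ∀ v, ((Groth.L00.Stk.F X x).map q).hom (((Groth.L00.Stk.F X x).map (cokernel.π f)).hom v) =
        ((Groth.L00.Stk.F X x).map g).hom v := fun v => by
      rw [← LinearMap.comp_apply, ← ModuleCat.hom_comp, ← Functor.map_comp, hq]
    refine ⟨(injective_iff_map_eq_zero _).2 fun v hv => ?_, fun v => ?_⟩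
    · obtain ⟨w, rfl⟩ := hp v
      rw [hg] at hv
      obtain ⟨u, rfl⟩ := h3 w hv
      rw [← LinearMap.comp_apply, ← ModuleCat.hom_comp, ← Functor.map_comp, cokernel.condition, Functor.map_zero]
      rfl
    · obtain ⟨w, rfl⟩ := h2 v
      exact ⟨_, hg w⟩
  rw [← e1, e2]

omit [IsLocallyNoetherian X] [IsIntegral X] in
theorem tensorMap_stalk {G A B : X.Modules} (g : A ⟶ B) {x : X} {e : G.presheaf.stalk x}
    (he : Function.Bijective fun a : X.presheaf.stalk x => a • e) (v : (CohB1.tensorMod G A).presheaf.stalk x) :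
    Groth.L21.RR.tensorStalkEquiv B he
        (((Groth.L00.Stk.F X x).map (((DCoh.tensorBi (X := X)).obj G).map g)).hom v) =
      ((Groth.L00.Stk.F X x).map g).hom (Groth.L21.RR.tensorStalkEquiv A he v) :=
  Groth.L21.RR.tensorStalkEquiv_natural g he v

/-- Tensoring with a coherent module free of rank one above dimension `b`, as a homomorphism on `K₀`. -/
def twHom {G : X.Modules} (hG : Coh.IsCoh G) (hf : FreeFrom δ (b + 1) G) :
    KZero.K0sub (Cyc.CohLe δ n) →+ Cyc.K0CohQuot δ n b :=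
  Groth.L29.KSub.lift (fun A => Cyc.toK0CohQuot δ n b (CohB1.tensorMod G A)) fun S hS h₁ h₂ h₃ => by
    have hmap := S.map ((DCoh.tensorBi (X := X)).obj G)
    refine toK0_eq_add_of_stalks (S.map ((DCoh.tensorBi (X := X)).obj G)).f
      (S.map ((DCoh.tensorBi (X := X)).obj G)).g (S.map ((DCoh.tensorBi (X := X)).obj G)).zero
      (cohLe_tensor hG h₁) (cohLe_tensor hG h₂) (cohLe_tensor hG h₃) fun x hx => ?_
    obtain ⟨e, he⟩ := hf x hx
    have hex := hS.map_of_exact (Groth.L00.Stk.F X x)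
    have hi : Function.Injective ((Groth.L00.Stk.F X x).map S.f).hom := (ModuleCat.mono_iff_injective _).1 hex.mono_f
    have hs : Function.Surjective ((Groth.L00.Stk.F X x).map S.g).hom := (ModuleCat.epi_iff_surjective _).1 hex.epi_g
    have hr : LinearMap.range ((Groth.L00.Stk.F X x).map S.f).hom =
        LinearMap.ker ((Groth.L00.Stk.F X x).map S.g).hom := hex.exact.moduleCat_range_eq_ker
    refine ⟨fun v w hvw => (Groth.L21.RR.tensorStalkEquiv S.X₁ he).injective (hi ?_), fun v => ?_, fun v hv => ?_⟩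
    · rw [← tensorMap_stalk S.f he, ← tensorMap_stalk S.f he]
      exact congrArg _ hvw
    · obtain ⟨w, hw⟩ := hs (Groth.L21.RR.tensorStalkEquiv S.X₃ he v)
      refine ⟨(Groth.L21.RR.tensorStalkEquiv S.X₂ he).symm w, (Groth.L21.RR.tensorStalkEquiv S.X₃ he).injective ?_⟩
      refine (tensorMap_stalk S.g he _).trans ?_
      rw [LinearEquiv.apply_symm_apply, hw]
    · have h0 : ((Groth.L00.Stk.F X x).map S.g).hom (Groth.L21.RR.tensorStalkEquiv S.X₂ he v) = 0 :=
        (tensorMap_stalk S.g he v).symm.trans ((congrArg _ hv).trans (map_zero _))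
      obtain ⟨w, hw⟩ := hr.ge (LinearMap.mem_ker.2 h0)
      refine ⟨(Groth.L21.RR.tensorStalkEquiv S.X₁ he).symm w, (Groth.L21.RR.tensorStalkEquiv S.X₂ he).injective ?_⟩
      refine (tensorMap_stalk S.f he _).trans ?_
      rw [LinearEquiv.apply_symm_apply, hw]

theorem twHom_clSub {G : X.Modules} (hG : Coh.IsCoh G) (hf : FreeFrom δ (b + 1) G) {A : X.Modules}
    (hA : Cyc.CohLe δ n A) :
    twHom hG hf (KZero.clSub (Cyc.CohLe δ n) A) = Cyc.toK0CohQuot δ n b (CohB1.tensorMod G A) :=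
  Groth.L29.KSub.lift_clSub _ _ hA

/-- Twisting by an invertible module on `K₀ / Coh_{≤ b}`. -/
def twQ {M : X.Modules} (hM : PicF.IsInvertible M) : Cyc.K0CohQuot δ n b →+ Cyc.K0CohQuot δ n b :=
  QuotientAddGroup.lift _ (twHom (Groth.L16.ProperFinite.isCoh_of_isInvertible hM) (freeFrom_of_isInvertible hM _)) <| by
    rw [AddSubgroup.closure_le]
    rintro _ ⟨F, hF, rfl⟩
    rw [SetLike.mem_coe, AddMonoidHom.mem_ker]
    by_cases hn : Cyc.CohLe δ n F
    · rw [twHom_clSub _ _ hn]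
      exact toK0_eq_zero (cohLe_tensor (Groth.L16.ProperFinite.isCoh_of_isInvertible hM) hF)
    · rw [KZero.clSub, dif_neg hn, map_zero]

theorem twQ_toK0 {M : X.Modules} (hM : PicF.IsInvertible M) {A : X.Modules} (hA : Cyc.CohLe δ n A) :
    twQ hM (Cyc.toK0CohQuot δ n b A) = Cyc.toK0CohQuot δ n b (CohB1.tensorMod M A) :=
  twHom_clSub (Groth.L16.ProperFinite.isCoh_of_isInvertible hM) (freeFrom_of_isInvertible hM _) hA

/-- `1 - [M]`. -/
def dQ {M : X.Modules} (hM : PicF.IsInvertible M) : Cyc.K0CohQuot δ n b →+ Cyc.K0CohQuot δ n b :=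
  AddMonoidHom.id _ - twQ hM

theorem dQ_mem (hδ : Cyc.IsSetup X δ) {M : X.Modules} (hM : PicF.IsInvertible M) {m : ℤ} (hm : m ≤ n)
    {z : Cyc.K0CohQuot δ n b} (hz : z ∈ Fil δ n b m) : dQ hM z ∈ Fil δ n b (m - 1) := by
  induction hz using AddSubgroup.closure_induction with
  | mem c hc =>
    obtain ⟨G, hG, rfl⟩ := hc
    rw [dQ, AddMonoidHom.sub_apply, AddMonoidHom.id_apply, twQ_toK0 hM (cohLe_mono hm hG)]
    exact sub_mem_comm_iff.1 (tensor_sub_mem_Fil hδ hm (Groth.L16.ProperFinite.isCoh_of_isInvertible hM)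
      (freeFrom_of_isInvertible hM m) hG)
  | zero => rw [map_zero]; exact zero_mem _
  | add c d _ _ hc hd => rw [map_add]; exact add_mem hc hd
  | neg c _ hc => rw [map_neg]; exact neg_mem hc

/-- `(1 - [M₀])(1 - [M₁]) ⋯`. -/
def prodD : {r : ℕ} → (M : Fin r → X.Modules) → (∀ i, PicF.IsInvertible (M i)) →
    (Cyc.K0CohQuot δ n b →+ Cyc.K0CohQuot δ n b)
  | 0, _, _ => AddMonoidHom.id _
  | _ + 1, M, hM => (dQ (hM 0)).comp (prodD (fun i => M i.succ) fun i => hM i.succ)

theorem prodD_mem (hδ : Cyc.IsSetup X δ) : ∀ {r : ℕ} (M : Fin r → X.Modules) (hM : ∀ i, PicF.IsInvertible (M i))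
    {m : ℤ}, m ≤ n → ∀ {z : Cyc.K0CohQuot δ n b}, z ∈ Fil δ n b m → prodD M hM z ∈ Fil δ n b (m - r)
  | 0, _, _, m, _, z, hz => by simpa [prodD] using hz
  | r + 1, M, hM, m, hm, z, hz => by
    have h1 := dQ_mem hδ (hM 0) (show m - r ≤ n by omega) (prodD_mem hδ (fun i => M i.succ) (fun i => hM i.succ) hm hz)
    rwa [show m - ((r + 1 : ℕ) : ℤ) = m - r - 1 by push_cast; ring]

end Groth.L21.RefK
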