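import Groth.Agent.L21.RefK.Chi

/-!
Reflexive powers of `ℒ₁ ⊗̂ P` for `P` invertible, and second order expansions of twists in `K₀`.
-/

set_option autoImplicit false
set_option linter.style.haveILetI false
set_option backward.isDefEq.respectTransparency false
set_option backward.isDefEq.respectTransparency.types false

universe u

open CategoryTheory CategoryTheory.Limits AlgebraicGeometry Groth.L22.LatDeg Groth.L15.Ref

noncomputable section

namespace Groth.L21.RefK

variable {X : Scheme.{u}} [IsLocallyNoetherian X] [IsIntegral X] {δ : X → ℤ} {n b : ℤ}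

theorem isRef1_tensor {P R : X.Modules} (hP : PicF.IsInvertible P) (hR : RefHull.IsRef1 R) :
    RefHull.IsRef1 (CohB1.tensorMod P R) := by
  have hT := Groth.L15.Ref.isCoh_tensorMod (Groth.L16.ProperFinite.isCoh_of_isInvertible hP) hR.1
  have hs : ∀ x, Module.IsReflexive (X.presheaf.stalk x) ((CohB1.tensorMod P R).presheaf.stalk x) := fun x => by
    obtain ⟨t, ht⟩ := exists_gen_of_isInvertible hP x
    haveI : Module.IsReflexive (X.presheaf.stalk x) (R.presheaf.stalk x) := (isReflexive_iff_stalks hR.1).1 hR.2.1 x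
    exact Module.equiv (Groth.L21.RR.tensorStalkEquiv R ht).symm
  have hr : RefHull.IsReflexive (CohB1.tensorMod P R) := (isReflexive_iff_stalks hT).2 hs
  obtain ⟨t, ht⟩ := exists_gen_of_isInvertible hP (genericPoint ↥X)
  obtain ⟨e, he⟩ := exists_gen_eta hR.2.2
  let E := (Groth.L21.RR.tensorStalkEquiv R ht).symm
  refine ⟨hT, hr, genInvertible_of_eta (e := E e) hT (isTorsionFree_stalk hT hr) ?_⟩
  have hc : (fun a : X.presheaf.stalk (genericPoint ↥X) => a • E e) = ⇑E ∘ fun a => a • e :=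
    funext fun a => (map_smul E a e).symm
  rw [hc]
  exact E.bijective.comp he

theorem hasDiv_tensor_ref (hX : Pi1.IsNormalScheme X) {P R : X.Modules} (hP : PicF.IsInvertible P)
    (hR : RefHull.IsRef1 R) {d d' : X → ℤ} (h : HasDiv P d) (h' : HasDiv R d') :
    HasDiv (CohB1.tensorMod P R) (d + d') := by
  have hT := isRef1_tensor hP hR
  haveI : IsIso (RefHull.bidualMap (CohB1.tensorMod P R)) := hT.2.1
  exact hasDiv_of_iso hX (isRef1_refTensor (isRef1_of_isInvertible hP) hR) hT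
    ⟨(asIso (RefHull.bidualMap (CohB1.tensorMod P R))).symm⟩
    (hasDiv_refTensor hX (isRef1_of_isInvertible hP) hR h h')

theorem hasDiv_refPow (hX : Pi1.IsNormalScheme X) {F : X.Modules} (hF : RefHull.IsRef1 F) {d : X → ℤ}
    (h : HasDiv F d) : ∀ m : ℕ, HasDiv (RefPow.refPow F m) (m • d)
  | 0 => by rw [zero_nsmul]; exact hasDiv_structureModule
  | 1 => by rw [one_nsmul]; exact h
  | m + 2 => by
    rw [succ_nsmul]
    exact hasDiv_refTensor hX (isRef1_refPow hF (m + 1)) hF (hasDiv_refPow hX hF h (m + 1)) h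

theorem iso_refPow_refTensor (hX : Pi1.IsNormalScheme X) {F P : X.Modules} (hF : RefHull.IsRef1 F)
    (hP : PicF.IsInvertible P) (m : ℕ) :
    Nonempty (RefPow.refPow (RefPow.refTensor F P) m ≅
      CohB1.tensorMod (CohB1.tensorPow P m) (RefPow.refPow F m)) := by
  obtain ⟨d, hd⟩ := exists_hasDiv hF
  obtain ⟨d', hd'⟩ := exists_hasDiv (isRef1_of_isInvertible hP)
  have h1 := hasDiv_refPow hX (isRef1_refTensor hF (isRef1_of_isInvertible hP))
    (hasDiv_refTensor hX hF (isRef1_of_isInvertible hP) hd hd') m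
  have h2 := hasDiv_tensor_ref hX (Groth.L18.Ample.isInvertible_tensorPow hP m) (isRef1_refPow hF m)
    (hasDiv_tensorPow hX hP hd' m) (hasDiv_refPow hX hF hd m)
  rw [nsmul_add, add_comm] at h1
  exact iso_of_hasDiv hX (isRef1_refPow (isRef1_refTensor hF (isRef1_of_isInvertible hP)) m)
    (isRef1_tensor (Groth.L18.Ample.isInvertible_tensorPow hP m) (isRef1_refPow hF m)) h1 h2

theorem iso_refPow_of_isInvertible (hX : Pi1.IsNormalScheme X) {P : X.Modules} (hP : PicF.IsInvertible P) (m : ℕ) :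
    Nonempty (RefPow.refPow P m ≅ CohB1.tensorMod (CohB1.tensorPow P m) (Coh.structureModule X)) := by
  obtain ⟨d', hd'⟩ := exists_hasDiv (isRef1_of_isInvertible hP)
  have h1 := hasDiv_refPow hX (isRef1_of_isInvertible hP) hd' m
  have h2 := hasDiv_tensor_ref hX (Groth.L18.Ample.isInvertible_tensorPow hP m) isRef1_structureModule
    (hasDiv_tensorPow hX hP hd' m) hasDiv_structureModule
  rw [add_zero] at h2
  exact iso_of_hasDiv hX (isRef1_refPow (isRef1_of_isInvertible hP) m)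
    (isRef1_tensor (Groth.L18.Ample.isInvertible_tensorPow hP m) isRef1_structureModule) h1 h2

theorem twQ_congr {P Q : X.Modules} (e : P ≅ Q) (hP : PicF.IsInvertible P) (hQ : PicF.IsInvertible Q)
    (hn : ∀ x, δ x ≤ n) (z : Cyc.K0CohQuot δ n b) : twQ hP z = twQ hQ z := by
  obtain ⟨z, rfl⟩ := QuotientAddGroup.mk_surjective z
  refine DFunLike.congr_fun (Groth.L29.KSub.hom_ext
    (φ := (twQ hP).comp (QuotientAddGroup.mk' _)) (ψ := (twQ hQ).comp (QuotientAddGroup.mk' _))
    fun A hA => ?_) z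
  show twQ hP (Cyc.toK0CohQuot δ n b A) = twQ hQ (Cyc.toK0CohQuot δ n b A)
  rw [twQ_toK0 hP hA, twQ_toK0 hQ hA]
  exact toK0_iso (Groth.L00.Tensor.tensorIso e (Iso.refl A))
    ⟨Groth.L15.Ref.isCoh_tensorMod (Groth.L16.ProperFinite.isCoh_of_isInvertible hP) hA.1, fun x _ => hn x⟩

theorem dQ_comm (hn : ∀ x, δ x ≤ n) {P Q : X.Modules} (hP : PicF.IsInvertible P) (hQ : PicF.IsInvertible Q)
    (z : Cyc.K0CohQuot δ n b) : dQ hP (dQ hQ z) = dQ hQ (dQ hP z) := by
  have hPQ := Groth.L18.GenLoc.isInvertible_tensor hP hQ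
  have hQP := Groth.L18.GenLoc.isInvertible_tensor hQ hP
  have e : dQ hPQ z = dQ hQP z := by
    simp only [dQ, AddMonoidHom.sub_apply, AddMonoidHom.id_apply]
    exact congrArg (z - ·) (twQ_congr (Groth.L00.Tensor.tensorComm P Q) hPQ hQP hn z)
  rw [dQ_tensor hn hP hQ hPQ, dQ_tensor hn hQ hP hQP, add_comm (dQ hQ z)] at e
  exact sub_right_injective e

theorem prodD_dQ (hn : ∀ x, δ x ≤ n) {P : X.Modules} (hP : PicF.IsInvertible P) :
    ∀ {r : ℕ} (M : Fin r → X.Modules) (hM : ∀ i, PicF.IsInvertible (M i)) (z : Cyc.K0CohQuot δ n b),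
      prodD M hM (dQ hP z) = dQ hP (prodD M hM z)
  | 0, _, _, _ => rfl
  | r + 1, M, hM, z => by
    show dQ (hM 0) (prodD _ _ (dQ hP z)) = dQ hP (dQ (hM 0) (prodD _ _ z))
    rw [prodD_dQ hn hP, dQ_comm hn]

/-- Functionals killing third differences of a twist are quadratic along powers. -/
theorem phi_tensorPow (hn : ∀ x, δ x ≤ n) {G : Type*} [AddCommGroup G]
    (φ : Cyc.K0CohQuot δ n b →+ G) {P : X.Modules} (hP : PicF.IsInvertible P)
    (h3 : ∀ z : Cyc.K0CohQuot δ n b, φ (dQ hP (dQ hP (dQ hP z))) = 0) : ∀ (m : ℕ) {A : X.Modules}, Coh.IsCoh A →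
      φ (Cyc.toK0CohQuot δ n b (CohB1.tensorMod (CohB1.tensorPow P m) A)) =
        φ (Cyc.toK0CohQuot δ n b A) - m • φ (dQ hP (Cyc.toK0CohQuot δ n b A)) +
          m.choose 2 • φ (dQ hP (dQ hP (Cyc.toK0CohQuot δ n b A)))
  | 0, A, hA => by
    rw [Nat.choose_zero_succ, zero_nsmul, zero_nsmul, sub_zero, add_zero]
    exact congrArg φ (toK0_iso (Groth.L00.Tensor.tensorUnitLeft A)
      ⟨Groth.L15.Ref.isCoh_tensorMod (Groth.L16.ProperFinite.isCoh_of_isInvertible
        (Groth.L18.Ample.isInvertible_structureModule X)) hA, fun x _ => hn x⟩)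
  | m + 1, A, hA => by
    have hPA := Groth.L15.Ref.isCoh_tensorMod (Groth.L16.ProperFinite.isCoh_of_isInvertible hP) hA
    have e : Cyc.toK0CohQuot δ n b (CohB1.tensorMod (CohB1.tensorPow P (m + 1)) A) =
        Cyc.toK0CohQuot δ n b (CohB1.tensorMod (CohB1.tensorPow P m) (CohB1.tensorMod P A)) :=
      toK0_iso (Groth.L00.Tensor.tensorAssoc _ _ _) ⟨Groth.L15.Ref.isCoh_tensorMod
        (Groth.L16.ProperFinite.isCoh_of_isInvertible (Groth.L18.Ample.isInvertible_tensorPow hP (m + 1))) hA,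
        fun x _ => hn x⟩
    have f : Cyc.toK0CohQuot δ n b (CohB1.tensorMod P A) =
        Cyc.toK0CohQuot δ n b A - dQ hP (Cyc.toK0CohQuot δ n b A) := by
      rw [dQ, AddMonoidHom.sub_apply, AddMonoidHom.id_apply, twQ_toK0 hP ⟨hA, fun x _ => hn x⟩, sub_sub_cancel]
    rw [e, phi_tensorPow hn φ hP h3 m hPA, f]
    simp only [map_sub, h3, sub_zero, nsmul_sub, succ_nsmul, Nat.choose_succ_succ', Nat.choose_one_right, add_nsmul]
    abel

theorem mem_Fil_self (z : Cyc.K0CohQuot δ n b) : z ∈ Fil δ n b n := by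
  obtain ⟨z, rfl⟩ := QuotientAddGroup.mk_surjective z
  have h := Groth.L29.KSub.hom_ext (P := Cyc.CohLe δ n) (G := Cyc.K0CohQuot δ n b ⧸ Fil δ n b n)
    (φ := (QuotientAddGroup.mk' (Fil δ n b n)).comp (QuotientAddGroup.mk' _)) (ψ := 0) (fun A hA => by
      show QuotientAddGroup.mk' (Fil δ n b n) (Cyc.toK0CohQuot δ n b A) = 0
      rw [QuotientAddGroup.mk'_apply, QuotientAddGroup.eq_zero_iff]
      exact AddSubgroup.subset_closure ⟨A, hA, rfl⟩)
  exact (QuotientAddGroup.eq_zero_iff _).1 (DFunLike.congr_fun h z)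

theorem dQ_unit (hn : ∀ x, δ x ≤ n) (hO : PicF.IsInvertible (Coh.structureModule X)) (z : Cyc.K0CohQuot δ n b) :
    dQ hO z = 0 := by
  obtain ⟨z, rfl⟩ := QuotientAddGroup.mk_surjective z
  refine DFunLike.congr_fun (Groth.L29.KSub.hom_ext (φ := (dQ hO).comp (QuotientAddGroup.mk' _)) (ψ := 0)
    fun A hA => ?_) z
  show dQ hO (Cyc.toK0CohQuot δ n b A) = 0
  rw [dQ, AddMonoidHom.sub_apply, AddMonoidHom.id_apply, twQ_toK0 hO hA, sub_eq_zero]
  exact (toK0_iso (Groth.L00.Tensor.tensorUnitLeft A) ⟨Groth.L15.Ref.isCoh_tensorMod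
    (Groth.L16.ProperFinite.isCoh_of_isInvertible hO) hA.1, fun x _ => hn x⟩).symm

theorem tendsto_quadratic_div_sq (c e : ℝ) :
    Filter.Tendsto (fun m : ℕ => (c + e * (m : ℝ) ^ 2) / (m : ℝ) ^ 2) Filter.atTop (nhds e) := by
  have h := (tendsto_linear_div_sq c 0).add (tendsto_const_nhds (x := e))
  rw [zero_add] at h
  refine h.congr' (Filter.eventually_atTop.2 ⟨1, fun m hm => ?_⟩)
  have : (m : ℝ) ≠ 0 := by exact_mod_cast (show m ≠ 0 by omega)
  field_simp
  ring

end Groth.L21.RefK
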