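import Groth.Agent.L21.RefK.Final
import Groth.Agent.L22.Inter.Fga
import Groth.Agent.L21.CurvFib.EtaleField
import Groth.Agent.L22.Cyc.Setup
import Groth.Agent.L06.DimLftJacobson
import Groth.Agent.L15.Ref.InvDiv
import Groth.Agent.L16.ProjSpace.Basic
import Mathlib.Analysis.SpecificLimits.Basic
import Mathlib.Data.Nat.Choose.Basic

/-!
Euler characteristics on `K₀`, and the linearity of alternating sums in rank one reflexive modules.
-/

set_option autoImplicit false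
set_option linter.style.haveILetI false
set_option backward.isDefEq.respectTransparency false
set_option backward.isDefEq.respectTransparency.types false

universe u

open CategoryTheory CategoryTheory.Limits AlgebraicGeometry Groth.L22.LatDeg

noncomputable section

namespace Groth.L21.RefK

variable {X : Scheme.{u}}

theorem proper_of_hproj (k : Type u) [Field k] [X.Over (Spec (CommRingCat.of k))]
    (hproj : ∃ (N : ℕ) (ι : X ⟶ CohB1.ProjSpace N k), IsClosedImmersion ι ∧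
      ι ≫ CohB1.ProjSpace.toSpec N k = X ↘ Spec (CommRingCat.of k)) :
    IsProper (X ↘ Spec (CommRingCat.of k)) := by
  obtain ⟨N, ι, hι, hc⟩ := hproj
  haveI : IsProper (CohB1.ProjSpace.toSpec N k) := Groth.L16.ProjSpace.isProper_toSpec (n := N) (R := k)
  rw [← hc]
  infer_instance

theorem isLocallyNoetherian_of_hproj (k : Type u) [Field k] [X.Over (Spec (CommRingCat.of k))]
    (hproj : ∃ (N : ℕ) (ι : X ⟶ CohB1.ProjSpace N k), IsClosedImmersion ι ∧
      ι ≫ CohB1.ProjSpace.toSpec N k = X ↘ Spec (CommRingCat.of k)) : IsLocallyNoetherian X :=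
  haveI := proper_of_hproj k hproj
  LocallyOfFiniteType.isLocallyNoetherian (X ↘ Spec (CommRingCat.of k))

variable [IsLocallyNoetherian X] [IsIntegral X] {δ : X → ℤ} {n b : ℤ}

theorem isSetup_spec_field (k : Type u) [Field k] : Cyc.IsSetup (Spec (CommRingCat.of k)) fun _ => 0 := by
  refine ⟨inferInstance, fun x => ?_, fun x y _ hne => absurd (Subsingleton.elim x y) hne⟩
  refine Groth.L18.Cat.isUniversallyCatenary_stalk (fun Z g hg => ?_) x
  haveI := hg
  refine Groth.L18.Cat.isCatenarySpace_of_stalks g fun y => ?_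
  haveI : IsRegularLocalRing ((Spec (CommRingCat.of k)).presheaf.stalk y) := by
    letI := (IsLocalRing.isField_iff_maximalIdeal_eq.2 (Groth.L21.CurvFib.maximalIdeal_stalk_spec_field y)).toField
    infer_instance
  exact Groth.L06.DimLftJacobson.isUniversallyCatenary_of_regularLocal _

theorem exists_dimFun (k : Type u) [Field k] (f : X ⟶ Spec (CommRingCat.of k)) [LocallyOfFiniteType f] :
    ∃ δ : X → ℤ, Cyc.IsSetup X δ :=
  (Groth.L22.Cyc.exists_setup f (isSetup_spec_field k)).imp fun _ h => h.1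

/-- A translate of a dimension function. -/
theorem exists_normalised_dimFun (k : Type u) [Field k] (f : X ⟶ Spec (CommRingCat.of k)) [LocallyOfFiniteType f]
    (N : ℕ) : ∃ δ : X → ℤ, Cyc.IsSetup X δ ∧ δ (genericPoint X) = (N : ℤ) := by
  obtain ⟨δ, hδ⟩ := exists_dimFun k f
  refine ⟨fun x => δ x - δ (genericPoint X) + N, ⟨hδ.1, hδ.2.1, fun x y hxy hne => ?_⟩, by ring⟩
  obtain ⟨h1, h2⟩ := hδ.2.2 x y hxy hne
  exact ⟨by linarith, fun hz => by linarith [h2 hz]⟩

variable (k : Type u) [Field k] [X.Over (Spec (CommRingCat.of k))] [IsProper (X ↘ Spec (CommRingCat.of k))]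

/-- The Euler characteristic on `K₀ / Coh_{≤ b}` for negative `b`. -/
def chiQ (h0 : ∀ x, 0 ≤ δ x) : Cyc.K0CohQuot δ n (-1) →+ ℤ :=
  QuotientAddGroup.lift _ (Groth.L29.KSub.lift (Curv2.euler k X) fun _ hS h₁ h₂ h₃ =>
    Groth.L03.Euler.euler_add hS h₁.1 h₂.1 h₃.1) <| by
    rw [AddSubgroup.closure_le]
    rintro _ ⟨F, hF, rfl⟩
    rw [SetLike.mem_coe, AddMonoidHom.mem_ker]
    have hz : IsZero F := (Groth.L21.Mod.isZero_iff_stalk_subsingleton F).2 fun x => subsingleton_of_cohLe_neg h0 hF x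
    rw [Groth.L29.KSub.clSub_zero _ hz (cohLe_of_isZero hz n), map_zero]

theorem chiQ_toK0 (h0 : ∀ x, 0 ≤ δ x) {F : X.Modules} (hF : Cyc.CohLe δ n F) :
    chiQ k h0 (Cyc.toK0CohQuot δ n (-1) F) = Curv2.euler k X F :=
  Groth.L29.KSub.lift_clSub (Curv2.euler k X)
    (fun _ hS h₁ h₂ h₃ => Groth.L03.Euler.euler_add hS h₁.1 h₂.1 h₃.1) hF

theorem intNum_eq_chiQ {N : ℕ} (hd : topologicalKrullDim X ≤ N) (h0 : ∀ x, 0 ≤ δ x) (hn : ∀ x, δ x ≤ n) {r : ℕ}
    (M : Fin r → X.Modules) (hM : ∀ i, PicF.IsInvertible (M i)) {F : X.Modules} (hF : Coh.IsCoh F) :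
    FGA.intNum k X N M F = chiQ k h0 (prodD M hM (Cyc.toK0CohQuot δ n (-1) F)) := by
  haveI : AlgebraicGeometry.IsNoetherian X := Groth.L21.RR.isNoetherian_of_proper (X := X) k
  rw [← alt_sum_eq hn M hM hF, map_sum, FGA.intNum]
  refine Finset.sum_congr rfl fun I _ => ?_
  rw [map_zsmul, Groth.L22.Inter.eulerCharLE_eq k hd, chiQ_toK0 k h0, smul_eq_mul]
  refine ⟨Groth.L15.Ref.isCoh_tensorMod (Groth.L16.ProperFinite.isCoh_of_isInvertible
    (isInvertible_tensorList _ fun N hN => ?_)) hF, fun x _ => hn x⟩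
  obtain ⟨i, -, rfl⟩ := List.mem_map.1 hN
  exact hM i

variable {k}

theorem refTensor_sub_mem_Fil (hδ : Cyc.IsSetup X δ) (hX : Pi1.IsNormalScheme X) (hη : δ (genericPoint X) = n)
    {ℒ₁ ℒ₂ : X.Modules} (h₁ : RefHull.IsRef1 ℒ₁) (h₂ : RefHull.IsRef1 ℒ₂) :
    Cyc.toK0CohQuot δ n b (RefPow.refTensor ℒ₁ ℒ₂) + Cyc.toK0CohQuot δ n b (Coh.structureModule X) -
      (Cyc.toK0CohQuot δ n b ℒ₁ + Cyc.toK0CohQuot δ n b ℒ₂) ∈ Fil δ n b (n - 2) := by
  have hle : ∀ x, δ x ≤ n := fun x => hη ▸ le_top_dim hδ.2.2 x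
  have h12 := Groth.L15.Ref.isRef1_refTensor h₁ h₂
  have hO : Coh.IsCoh (Coh.structureModule X) :=
    Groth.L16.ProperFinite.isCoh_of_isInvertible (Groth.L18.Ample.isInvertible_structureModule X)
  have he := toK0_refTensor_add (b := n - 2) hδ hX hη rfl h₁ h₂
  rw [← sub_eq_zero] at he
  have hz := incl_mem_Fil (b := b) (show n - 2 ≤ n by omega) le_rfl
    (z := KZero.clSub (Cyc.CohLe δ n) (RefPow.refTensor ℒ₁ ℒ₂) + KZero.clSub (Cyc.CohLe δ n) (Coh.structureModule X) -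
      (KZero.clSub (Cyc.CohLe δ n) ℒ₁ + KZero.clSub (Cyc.CohLe δ n) ℒ₂)) he
  rwa [map_sub, map_add, map_add, incl_clSub le_rfl ⟨h12.1, fun x _ => hle x⟩,
    incl_clSub le_rfl ⟨hO, fun x _ => hle x⟩, incl_clSub le_rfl ⟨h₁.1, fun x _ => hle x⟩,
    incl_clSub le_rfl ⟨h₂.1, fun x _ => hle x⟩] at hz

variable (δ n b) in
/-- `[ℒ] - [O]`. -/
def xcl (ℒ : X.Modules) : Cyc.K0CohQuot δ n b :=
  Cyc.toK0CohQuot δ n b ℒ - Cyc.toK0CohQuot δ n b (Coh.structureModule X)

variable (hδ : Cyc.IsSetup X δ) (hX : Pi1.IsNormalScheme X) (hη : δ (genericPoint X) = n)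
  {r : ℕ} (M : Fin r → X.Modules) (hM : ∀ i, PicF.IsInvertible (M i))

include hδ hX hη in
theorem prodD_xcl_refTensor (hr : n - 2 - r ≤ b) {ℒ₁ ℒ₂ : X.Modules} (h₁ : RefHull.IsRef1 ℒ₁)
    (h₂ : RefHull.IsRef1 ℒ₂) :
    prodD M hM (xcl δ n b (RefPow.refTensor ℒ₁ ℒ₂)) = prodD M hM (xcl δ n b ℒ₁) + prodD M hM (xcl δ n b ℒ₂) := by
  have h := prodD_mem hδ M hM (show n - 2 ≤ n by omega) (refTensor_sub_mem_Fil (b := b) hδ hX hη h₁ h₂)
  rw [Fil_le_bot hr, AddSubgroup.mem_bot] at h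
  rw [← sub_eq_zero, ← map_add, ← map_sub, ← h]
  congr 1
  simp only [xcl]
  abel

include hδ hX hη in
theorem prodD_refPow (hr : n - 2 - r ≤ b) {ℒ : X.Modules} (hℒ : RefHull.IsRef1 ℒ) : ∀ m : ℕ,
    prodD M hM (Cyc.toK0CohQuot δ n b (RefPow.refPow ℒ m)) =
      prodD M hM (Cyc.toK0CohQuot δ n b (Coh.structureModule X)) + m • prodD M hM (xcl δ n b ℒ)
  | 0 => by rw [zero_nsmul, add_zero]; rfl
  | 1 => by rw [one_nsmul, ← map_add]; congr 1; simp only [xcl, RefPow.refPow_one]; abel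
  | m + 2 => by
    have h := prodD_xcl_refTensor hδ hX hη M hM hr (Groth.L15.Ref.isRef1_refPow hℒ (m + 1)) hℒ
    have ih := prodD_refPow hr hℒ (m + 1)
    simp only [xcl, map_sub] at h ih ⊢
    rw [RefPow.refPow_succ_succ, sub_eq_iff_eq_add.1 h, ih, add_smul _ 2, succ_nsmul, two_nsmul]
    abel

/-- A sequence with linear growth vanishes on the scale `m²`. -/
theorem tendsto_linear_div_sq (c d : ℝ) :
    Filter.Tendsto (fun m : ℕ => (c + m * d) / (m : ℝ) ^ 2) Filter.atTop (nhds 0) := by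
  have h1 : Filter.Tendsto (fun m : ℕ => (1 / (m : ℝ))) Filter.atTop (nhds 0) := tendsto_one_div_atTop_nhds_zero_nat
  have h2 := ((h1.mul h1).const_mul c).add (h1.const_mul d)
  simp only [mul_zero, add_zero] at h2
  refine h2.congr' (Filter.eventually_atTop.2 ⟨1, fun m hm => ?_⟩)
  have : (m : ℝ) ≠ 0 := by exact_mod_cast (show m ≠ 0 by omega)
  field_simp

end Groth.L21.RefK
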