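import Groth.Agent.L21.RefK.FrobClass
import Groth.Prelude.Def_TorSh
import Groth.Agent.L15.Ref.ExtDiv
import Groth.Agent.L11.IntTh.CokerDet
import Groth.Agent.L18.GenLocus
import Mathlib.LinearAlgebra.Matrix.Basis
import Mathlib.LinearAlgebra.Matrix.ToLin

/-!
The class of a torsion free module modulo codimension two is given by rank and determinant.
-/

set_option autoImplicit false
set_option linter.style.haveILetI false
set_option backward.isDefEq.respectTransparency false
set_option backward.isDefEq.respectTransparency.types false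

universe u

open CategoryTheory CategoryTheory.Limits AlgebraicGeometry TopologicalSpace Opposite
open Groth.L22.LatDeg

noncomputable section

namespace Groth.L21.RefK

open Groth.L15.Ref (HasDiv toEta toEta_stalkMapₗ)
open Groth.L15.CDivLib (am am_injective)

/-- The colength of `r` vectors in a free module of rank `r`. -/
theorem length_quotient_span {R : Type u} [CommRing R] [IsDomain R] [IsNoetherianRing R] [Ring.KrullDimLE 1 R]
    {M : Type u} [AddCommGroup M] [Module R M] {r : ℕ} (β : Module.Basis (Fin r) R M) (v : Fin r → M)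
    (hv : (β.toMatrix v).det ≠ 0) :
    Module.length R (M ⧸ Submodule.span R (Set.range v)) = Ring.ord R (β.toMatrix v).det := by
  rw [← Groth.L11.CokerDet.colen_eq_ord_det _ (mem_nonZeroDivisors_of_ne_zero hv), Groth.L11.CokerDet.colen]
  refine (Submodule.Quotient.equiv (Submodule.span R (Set.range v)) _ β.equivFun ?_).length_eq
  rw [Submodule.map_span, Matrix.range_toLin', ← Set.range_comp]
  rfl

variable {X : Scheme.{u}} [IsIntegral X] [IsLocallyNoetherian X]

local notation "St" => Groth.L00.Stk.F X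

omit [IsIntegral X] [IsLocallyNoetherian X] in
/-- Stalks of a twisted free module are generated by the summands. -/
theorem exists_sum_gen (N : X.Modules) (r : ℕ) (x : X)
    {e₁ : (CohB1.tensorMod N (Coh.structureModule X)).presheaf.stalk x}
    (he₁ : Function.Surjective fun a : X.presheaf.stalk x => a • e₁)
    (w : (CohB1.tensorMod N (FlatMod.freeMod X r)).presheaf.stalk x) :
    ∃ a : Fin r → X.presheaf.stalk x, w = ∑ i, a i • RefHull.stalkMapₗ
      (((DCoh.tensorBi (X := X)).obj N).map (Sigma.ι (fun _ : Fin r => Coh.structureModule X) i)) x e₁ := by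
  classical
  let Φ := ((DCoh.tensorBi (X := X)).obj N) ⋙ St x
  haveI : Φ.Additive := inferInstance
  have hid : 𝟙 (FlatMod.freeMod X r) = ∑ i, Sigma.π (fun _ : Fin r => Coh.structureModule X) i ≫
      Sigma.ι (fun _ : Fin r => Coh.structureModule X) i := by
    refine Sigma.hom_ext _ _ fun j => ?_
    rw [Category.comp_id, Preadditive.comp_sum, Finset.sum_eq_single j]
    · rw [Sigma.ι_π_eq_id_assoc]
    · intro i _ hij
      rw [Sigma.ι_π_of_ne_assoc _ (Ne.symm hij), zero_comp]
    · exact fun h => absurd (Finset.mem_univ _) h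
  choose a ha using fun i => he₁ ((Φ.map (Sigma.π (fun _ : Fin r => Coh.structureModule X) i)).hom w)
  refine ⟨a, ?_⟩
  have h1 : w = (Φ.map (𝟙 (FlatMod.freeMod X r))).hom w := by rw [Φ.map_id]; rfl
  rw [hid, Φ.map_sum, ModuleCat.hom_sum, LinearMap.sum_apply] at h1
  refine h1.trans (Finset.sum_congr rfl fun i _ => ?_)
  rw [Φ.map_comp, ModuleCat.comp_apply, ← ha i]
  exact map_smul _ _ _

omit [IsIntegral X] [IsLocallyNoetherian X] in
theorem length_coker_stalk {A B : X.Modules} (φ : A ⟶ B) (x : X) (T : Submodule (X.presheaf.stalk x) (B.presheaf.stalk x))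
    (h : LinearMap.range ((St x).map φ).hom = T) :
    Module.length (X.presheaf.stalk x) ((cokernel φ).presheaf.stalk x) =
      Module.length (X.presheaf.stalk x) (B.presheaf.stalk x ⧸ T) := by
  subst h
  exact ((PreservesCokernel.iso (St x) φ ≪≫ ModuleCat.cokernelIsoRangeQuotient ((St x).map φ)).toLinearEquiv).length_eq

theorem coheight_of_dim {δ : X → ℤ} (hδ : Cyc.IsDimFun X δ) (hX : Pi1.IsNormalScheme X) {z : X}
    (hz : δ z + 1 = δ (genericPoint X)) : Order.coheight z = 1 := by
  haveI := isDVR_stalk hδ hX z hz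
  exact (Groth.L15.Ref.coheight_eq_one_iff z).1
    (IsPrincipalIdealRing.ringKrullDim_eq_one (X.presheaf.stalk z) (IsDiscreteValuationRing.not_isField _))

variable {δ : X → ℤ} {n b : ℤ}

omit [IsIntegral X] in
theorem toK0_tensorFree (hn : ∀ x, δ x ≤ n) [IsIntegral X] {N : X.Modules} (hN : PicF.IsInvertible N) (r : ℕ) :
    Cyc.toK0CohQuot δ n b (CohB1.tensorMod N (FlatMod.freeMod X r)) = r • Cyc.toK0CohQuot δ n b N := by
  rw [← twQ_toK0 hN (cohLe_of_le hn (isCoh_freeMod' X r)), toK0_free hn, map_nsmul,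
    twQ_toK0 hN (cohLe_of_le hn Groth.L16.CohClosedPush.isCoh_structure)]
  exact congrArg (r • ·) (toK0_iso (Groth.L00.Tensor.tensorUnitRight N)
    (cohLe_of_le hn (Groth.L15.Ref.isCoh_tensorMod (Groth.L16.ProperFinite.isCoh_of_isInvertible hN)
      Groth.L16.CohClosedPush.isCoh_structure)))

/-- A rank one reflexive module with effective divisor has class the sum of the codimension one points. -/
theorem exists_cokernel_class (hδ : Cyc.IsSetup X δ) (hX : Pi1.IsNormalScheme X) (hη : δ (genericPoint X) = n)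
    {T : X.Modules} (hT : RefHull.IsRef1 T) {e : X → ℤ} (he : HasDiv T e)
    (hpos : ∀ z : X, Order.coheight z = 1 → 0 ≤ e z) :
    ∃ C : X.Modules, Cyc.CohLe δ (n - 1) C ∧
      Cyc.toK0CohQuot δ n b T - Cyc.toK0CohQuot δ n b (Coh.structureModule X) - Cyc.toK0CohQuot δ n b C ∈
        Fil δ n b (n - 2) ∧
      ∀ z : X, δ z = n - 1 → Cyc.sheafFun δ (n - 1) C z = e z := by
  obtain ⟨s, hs, hse⟩ := he
  obtain ⟨s', rfl⟩ := Submodule.mkQ_surjective _ s
  have hs' : s' ≠ 0 := fun h => hs (by rw [h, map_zero])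
  have hco : ∀ z : X, Order.coheight z = 1 → ∃ (q : X.presheaf.stalk z) (a : T.presheaf.stalk z),
      Submodule.span (X.presheaf.stalk z) {a} = ⊤ ∧ toEta T z a ≠ 0 ∧ q ≠ 0 ∧ toEta T z (q • a) = s' ∧
        ((Ring.ord (X.presheaf.stalk z) q).toNat : ℤ) = e z := by
    intro z hz
    haveI := Groth.L15.CDivLib.isDVR_of_coheight hX hz
    obtain ⟨a, ha, ha0⟩ := Groth.L15.Ref.exists_gen_dvr hT z
    obtain ⟨φ, hφ⟩ := Groth.L15.Ref.exists_coeff hT.2.2 ha0 s'
    have hφ0 : φ ≠ 0 := fun h => hs' (by rw [hφ, h]; exact zero_smul _ _)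
    have h1 := hse z hz
    rw [hφ, show Cyc.secOrdAt T _ z _ (Submodule.mkQ _ _) = _ from
      Groth.L15.Ref.secOrdAt_eq hT.2.2 hz _ ha ha0 hφ0] at h1
    obtain ⟨q, hq⟩ := (Groth.L15.CDivLib.exists_am_iff_ord_nonneg hz
      (Units.mk0 (G₀ := X.functionField) φ hφ0)).2 (show 0 ≤ Scheme.ord φ z from h1 ▸ hpos z hz)
    have hq' : am z q = φ := hq
    have hq0 : q ≠ 0 := fun h => hφ0 (by rw [← hq', h, map_zero])
    refine ⟨q, a, ha, ha0, hq0, ?_, ?_⟩
    · rw [Groth.L15.Ref.toEta_smul, hφ, hq']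
    · rw [← Groth.L15.SecOrd.ord_am hz hq0, hq', h1]
  obtain ⟨m, hm⟩ := Groth.L15.Ref.exists_section hX hT.1 hT.2.1 (W := ⊤) s' fun z _ hz => by
    obtain ⟨q, a, -, -, -, h, -⟩ := hco z hz
    exact ⟨_, h⟩
  let σ := Groth.L16.homOfSection T m
  have hση : Groth.L15.Ref.secSt σ (genericPoint X) = s' := by
    rw [← Groth.L15.Ref.germ_val σ (U := ⊤) trivial]
    show T.presheaf.germ ⊤ (genericPoint X) trivial (Groth.L18.GenLoc.secOf σ) = s'
    rw [Groth.L18.GenLoc.secOf_homOfSection]
    exact hm trivial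
  have hgen : IsIso ((St (genericPoint X)).map σ) := by
    refine (ConcreteCategory.isIso_iff_bijective _).2 ((Groth.L15.Ref.bijective_iff_secSt σ _).2 ?_)
    rw [hση]
    exact Groth.L15.Ref.bijective_smul_of_ne_zero hT.2.2 hs'
  have hO : FlatMod.IsFinLocFree (Coh.structureModule X) :=
    Groth.L29.LocFree.of_iso (coproductUniqueIso (fun _ : Fin 1 => Coh.structureModule X))
      (Groth.L29.DC.isFinLocFree_freeMod X 1)
  obtain ⟨hC, hmem⟩ := sub_eq_cokernel_mem_Fil (b := b) hδ hη Groth.L16.CohClosedPush.isCoh_structure hO hT.1 σ hgen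
  refine ⟨cokernel σ, hC, hmem, fun z hzd => ?_⟩
  have hz := coheight_of_dim hδ.2.2 hX (z := z) (by omega)
  haveI := Groth.L15.CDivLib.isDVR_of_coheight hX hz
  obtain ⟨q, a, ha, ha0, hq0, hqa, hqe⟩ := hco z hz
  haveI : Coh.IsQCoh T := hT.1.1
  haveI := Groth.L15.Ref.isTorsionFree_stalk hT.1 hT.2.1 z
  have hσz : Groth.L15.Ref.secSt σ z = q • a :=
    Groth.L15.Ref.toEta_injective z (by rw [Groth.L15.Ref.toEta_secSt, hση, hqa])
  have hli : LinearIndependent (X.presheaf.stalk z) (fun _ : Fin 1 => a) :=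
    LinearIndependent.of_subsingleton (0 : Fin 1) fun h => ha0 (by rw [h, map_zero])
  let β : Module.Basis (Fin 1) (X.presheaf.stalk z) (T.presheaf.stalk z) :=
    Module.Basis.mk hli (by rw [Set.range_const, ha])
  have hdet : (β.toMatrix fun _ : Fin 1 => q • a).det = q := by
    rw [Matrix.det_fin_one, Module.Basis.toMatrix_apply, map_smul,
      show a = β 0 from (Module.Basis.mk_apply hli _ 0).symm, Module.Basis.repr_self]
    simp
  have hrange : LinearMap.range ((St z).map σ).hom =
      Submodule.span (X.presheaf.stalk z) (Set.range fun _ : Fin 1 => q • a) := by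
    rw [Set.range_const, ← hσz]
    refine le_antisymm ?_ ((Submodule.span_singleton_le_iff_mem _ _).2 ⟨Groth.L21.RR.one X z, rfl⟩)
    rintro _ ⟨w, rfl⟩
    obtain ⟨c, rfl⟩ := (Groth.L21.RR.bijective_smul_one z).2 w
    exact Submodule.mem_span_singleton.2 ⟨c, (map_smul _ c _).symm⟩
  rw [Cyc.sheafFun]
  simp only [hzd, if_true]
  rw [length_coker_stalk σ z _ hrange, length_quotient_span β _ (by rw [hdet]; exact hq0), hdet]
  exact hqe

/-- Torsion free modules modulo codimension two: rank and determinant. -/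
theorem toK0_eq_of_det (hδ : Cyc.IsSetup X δ) (hX : Pi1.IsNormalScheme X) (hη : δ (genericPoint X) = n)
    (hb : n - 2 ≤ b) {r : ℕ} {F : X.Modules} (hF : Coh.IsCoh F) (hFtf : TorSh.IsTorsionFree F)
    (hrk : Module.finrank (X.presheaf.stalk (genericPoint X)) (F.presheaf.stalk (genericPoint X)) = r)
    {N : X.Modules} (hN : PicF.IsInvertible N) (φ : CohB1.tensorMod N (FlatMod.freeMod X r) ⟶ F)
    (hφ : IsIso ((St (genericPoint X)).map φ)) {W : X.Modules} (hW : ExtPow.IsExtPow r F W) :
    Cyc.toK0CohQuot δ n b F - r • Cyc.toK0CohQuot δ n b (Coh.structureModule X) =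
      xcl δ n b (RefHull.ddual W) := by
  classical
  have hn : ∀ x, δ x ≤ n := fun x => hη ▸ le_top_dim hδ.2.2 x
  let η := genericPoint X
  obtain ⟨ψ, hψ⟩ := hW
  haveI : Coh.IsQCoh F := hF.1
  have hWc : Coh.IsCoh W := Groth.L15.Ref.isCoh_extPow hF ⟨ψ, hψ⟩
  haveI : Coh.IsQCoh W := hWc.1
  let M := CohB1.tensorMod N (Coh.structureModule X)
  have hM : PicF.IsInvertible M := Groth.L18.GenLoc.isInvertible_tensor hN (Groth.L18.Ample.isInvertible_structureModule X)
  have hM1 := Groth.L15.Ref.isRef1_of_isInvertible hM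
  let ι := fun i : Fin r => ((DCoh.tensorBi (X := X)).obj N).map (Sigma.ι (fun _ : Fin r => Coh.structureModule X) i)
  -- the generic basis
  letI : Field (X.presheaf.stalk η) := inferInstanceAs (Field X.functionField)
  haveI := Groth.L15.Ref.finite_stalk hF η
  obtain ⟨e₀, he₀⟩ := Groth.L21.RR.exists_frame_stalk hM η
  have he₀0 : e₀ ≠ 0 := fun h => one_ne_zero (α := X.presheaf.stalk η) (he₀.1 (by simp only [h, smul_zero]))
  let v : Fin r → F.presheaf.stalk η := fun i => RefHull.stalkMapₗ φ η (RefHull.stalkMapₗ (ι i) η e₀)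
  have hbijη := (ConcreteCategory.isIso_iff_bijective _).1 hφ
  have hspan : ⊤ ≤ Submodule.span (X.presheaf.stalk η) (Set.range v) := fun y _ => by
    obtain ⟨w, hw⟩ := hbijη.2 y
    obtain ⟨a, rfl⟩ := exists_sum_gen N r η he₀.2 w
    rw [← hw]
    show RefHull.stalkMapₗ φ η (∑ i, a i • RefHull.stalkMapₗ (ι i) η e₀) ∈ _
    rw [map_sum]
    exact Submodule.sum_mem _ fun i _ => by
      rw [map_smul]; exact Submodule.smul_mem _ _ (Submodule.subset_span ⟨i, rfl⟩)
  let bb : Module.Basis (Fin r) (X.presheaf.stalk η) (F.presheaf.stalk η) :=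
    basisOfTopLeSpanOfCardEqFinrank v hspan (by rw [Fintype.card_fin, hrk])
  have hbb : ∀ i, bb i = v i := fun i => congrFun (coe_basisOfTopLeSpanOfCardEqFinrank v hspan _) i
  obtain ⟨V₀, h₀, es, hes⟩ := Groth.L15.Ref.exists_affine_germs (F := F) (x := η) fun i => bb i
  have hω := Groth.L15.Ref.bijective_smul_omega ψ hψ h₀ es bb (fun i => (hes i).symm)
  generalize hωdef : W.presheaf.germ V₀.1 _ h₀ (Groth.L22.CurveDeg.Det.wedge ψ V₀ es) = ω at hω
  -- the local computation
  have hloc : ∀ z : X, Order.coheight z = 1 → ∃ (g l : X.functionField) (k : ℕ), g ≠ 0 ∧ l ≠ 0 ∧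
      (∃ t : M.presheaf.stalk z, Submodule.span (X.presheaf.stalk z) {t} = ⊤ ∧
        toEta M z t = (g : X.presheaf.stalk η) • e₀) ∧
      (Module.length (X.presheaf.stalk z) ((cokernel φ).presheaf.stalk z)).toNat = k ∧
      (r : ℤ) * Scheme.ord g z = (k : ℤ) + Scheme.ord l z ∧
      ((∃ w : W.presheaf.stalk z, toEta W z w = (l : X.presheaf.stalk η) • ω) ∧
        ∀ w : W.presheaf.stalk z, ∃ p : X.presheaf.stalk z, toEta W z w =
          (am z p : X.presheaf.stalk η) • (l : X.presheaf.stalk η) • ω) := by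
    intro z hz
    haveI := Groth.L15.CDivLib.isDVR_of_coheight hX hz
    haveI := Groth.L15.Ref.finite_stalk hF z
    haveI := hFtf z
    haveI : Module.Free (X.presheaf.stalk z) (F.presheaf.stalk z) := Module.free_of_finite_type_torsion_free'
    obtain ⟨et, het⟩ := Groth.L21.RR.exists_frame_stalk hM z
    obtain ⟨g, hg⟩ := (Groth.L15.Ref.bijective_smul_of_ne_zero hM1.2.2 he₀0).2 (toEta M z et)
    haveI : Coh.IsQCoh M := hM1.1.1
    haveI := Groth.L15.Ref.isTorsionFree_stalk hM1.1 hM1.2.1 z
    have hg0 : g ≠ 0 := fun h => by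
      have h1 : toEta M z et = toEta M z 0 := by
        rw [map_zero, ← hg]
        exact (congrArg (· • e₀) h).trans (zero_smul _ _)
      exact one_ne_zero (α := X.presheaf.stalk z) (het.1 (by
        simp only [Groth.L15.Ref.toEta_injective z h1, smul_zero]))
    let u : Fin r → F.presheaf.stalk z := fun i => RefHull.stalkMapₗ φ z (RefHull.stalkMapₗ (ι i) z et)
    have hu : ∀ i, toEta F z (u i) = (g : X.presheaf.stalk η) • bb i := fun i => by
      refine (toEta_stalkMapₗ φ z _).trans ?_
      refine (congrArg (RefHull.stalkMapₗ φ η) ((toEta_stalkMapₗ (ι i) z et).trans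
        (congrArg (RefHull.stalkMapₗ (ι i) η) hg.symm))).trans ?_
      refine (congrArg (RefHull.stalkMapₗ φ η) (map_smul (RefHull.stalkMapₗ (ι i) η) g e₀)).trans ?_
      refine (map_smul (RefHull.stalkMapₗ φ η) g _).trans ?_
      exact (congrArg (fun w => (g : X.presheaf.stalk η) • w) (hbb i)).symm
    have hrange : LinearMap.range ((St z).map φ).hom = Submodule.span (X.presheaf.stalk z) (Set.range u) := by
      refine le_antisymm ?_ (Submodule.span_le.2 ?_)
      · rintro _ ⟨w, rfl⟩
        obtain ⟨a, rfl⟩ := exists_sum_gen N r z het.2 w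
        show RefHull.stalkMapₗ φ z (∑ i, a i • RefHull.stalkMapₗ (ι i) z et) ∈ _
        rw [map_sum]
        exact Submodule.sum_mem _ fun i _ => by
          rw [map_smul]; exact Submodule.smul_mem _ _ (Submodule.subset_span ⟨i, rfl⟩)
      · rintro _ ⟨i, rfl⟩
        exact ⟨_, rfl⟩
    -- a basis of the stalk
    let β₀ := Module.Free.chooseBasis (X.presheaf.stalk z) (F.presheaf.stalk z)
    haveI : Fintype (Module.Free.ChooseBasisIndex (X.presheaf.stalk z) (F.presheaf.stalk z)) := inferInstance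
    let c₀ := fun j => toEta F z (β₀ j)
    have hsum : ∀ w : F.presheaf.stalk z, toEta F z w = ∑ j, (am z (β₀.repr w j) : X.presheaf.stalk η) • c₀ j := by
      intro w
      conv_lhs => rw [← β₀.sum_repr w, map_sum]
      exact Finset.sum_congr rfl fun j _ => Groth.L15.Ref.toEta_smul F z _ _
    have hc₀span : ⊤ ≤ Submodule.span (X.presheaf.stalk η) (Set.range c₀) := by
      rw [← bb.span_eq, Submodule.span_le]
      rintro _ ⟨i, rfl⟩
      have h1 : (g : X.presheaf.stalk η) • bb i ∈ Submodule.span (X.presheaf.stalk η) (Set.range c₀) := by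
        rw [← hu i, hsum]
        exact Submodule.sum_mem _ fun j _ => Submodule.smul_mem _ _ (Submodule.subset_span ⟨j, rfl⟩)
      have h2 := Submodule.smul_mem _ ((g⁻¹ : X.functionField) : X.presheaf.stalk η) h1
      rwa [smul_smul, show ((g⁻¹ : X.functionField) : X.presheaf.stalk η) * (g : X.presheaf.stalk η) = 1 from
        inv_mul_cancel₀ hg0, one_smul] at h2
    have hc₀li : LinearIndependent (X.presheaf.stalk η) c₀ := by
      rw [Fintype.linearIndependent_iff]
      intro a ha
      have hli := (β₀.linearIndependent)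
      by_contra hne
      push Not at hne
      obtain ⟨j, hj⟩ := hne
      obtain ⟨d, hd⟩ := IsLocalization.exist_integer_multiples_of_finite (nonZeroDivisors (X.presheaf.stalk z))
        (S := X.functionField) (fun i => (a i : X.functionField))
      choose q hq using fun i => hd i
      have hq' : ∀ i, am z (q i) = am z (d : X.presheaf.stalk z) * (a i : X.functionField) := fun i =>
        (hq i).trans (Algebra.smul_def _ _)
      have hzero : toEta F z (∑ i, q i • β₀ i) = toEta F z 0 := by
        rw [map_zero, map_sum]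
        have : ∀ i, toEta F z (q i • β₀ i) = (am z (d : X.presheaf.stalk z) : X.presheaf.stalk η) • a i • c₀ i :=
          fun i => by
            rw [Groth.L15.Ref.toEta_smul, hq' i, smul_smul]
        rw [Finset.sum_congr rfl fun i _ => this i, ← Finset.smul_sum, ha, smul_zero]
      have h3 := Fintype.linearIndependent_iff.1 hli q (Groth.L15.Ref.toEta_injective z hzero) j
      have h4 := hq' j
      rw [h3, map_zero] at h4
      exact hj ((mul_eq_zero.1 h4.symm).resolve_left ((map_ne_zero_iff _ (am_injective z)).2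
        (nonZeroDivisors.ne_zero d.2)))
    let κ := Module.Basis.mk hc₀li hc₀span
    let σ : Module.Free.ChooseBasisIndex (X.presheaf.stalk z) (F.presheaf.stalk z) ≃ Fin r := κ.indexEquiv bb
    let β := β₀.reindex σ
    let c : Fin r → F.presheaf.stalk η := fun j => toEta F z (β j)
    have hsum' : ∀ w : F.presheaf.stalk z, toEta F z w = ∑ j, (am z (β.repr w j) : X.presheaf.stalk η) • c j := by
      intro w
      conv_lhs => rw [← β.sum_repr w, map_sum]
      exact Finset.sum_congr rfl fun j _ => Groth.L15.Ref.toEta_smul F z _ _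
    obtain ⟨hgW, hallW⟩ := Groth.L15.Ref.exists_gen_image ψ hψ h₀ es bb (fun i => (hes i).symm) z c
      (fun j => ⟨_, rfl⟩) (fun w => ⟨fun j => β.repr w j, hsum' w⟩)
    rw [hωdef] at hgW hallW
    let C : Matrix (Fin r) (Fin r) (X.presheaf.stalk η) := Matrix.of fun i j => bb.repr (c i) j
    let A := β.toMatrix u
    have hU : (A.transpose.map (am z : X.presheaf.stalk z → X.presheaf.stalk η)) * C = (g : X.presheaf.stalk η) • 1 := by
      refine Matrix.ext fun i j => ?_
      have h1 : bb.repr (toEta F z (u i)) j = ∑ l, (am z (β.repr (u i) l) : X.presheaf.stalk η) * bb.repr (c l) j := by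
        rw [hsum' (u i), map_sum, Finsupp.finsetSum_apply]
        exact Finset.sum_congr rfl fun l _ => by rw [map_smul, Finsupp.smul_apply, smul_eq_mul]
      rw [hu i, map_smul, Finsupp.smul_apply, Module.Basis.repr_self, Finsupp.single_apply] at h1
      rw [Matrix.mul_apply, Matrix.smul_apply, Matrix.one_apply]
      exact h1.symm
    have hdet : am z A.det * (C.det : X.functionField) = g ^ r := by
      have h1 := congrArg Matrix.det hU
      have h2 : (A.transpose.map (am z : X.presheaf.stalk z → X.presheaf.stalk η)).det =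
          (am z A.det : X.presheaf.stalk η) := by
        rw [← Matrix.det_transpose A]
        exact (RingHom.map_det (am z) A.transpose).symm
      rw [Matrix.det_mul, h2, Matrix.det_smul, Matrix.det_one, mul_one, Fintype.card_fin] at h1
      exact h1
    have hne : am z A.det * (C.det : X.functionField) ≠ 0 := by rw [hdet]; exact pow_ne_zero _ hg0
    have hA : A.det ≠ 0 := fun h => hne (by rw [h, map_zero, zero_mul])
    have hC0 : (C.det : X.functionField) ≠ 0 := right_ne_zero_of_mul hne
    refine ⟨g, C.det, (Ring.ord (X.presheaf.stalk z) A.det).toNat, hg0, hC0,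
      ⟨et, Submodule.eq_top_iff'.2 fun w => Submodule.mem_span_singleton.2 (het.2 w), hg.symm⟩, ?_, ?_, hgW, hallW⟩
    · rw [length_coker_stalk φ z _ hrange, length_quotient_span β u hA]
    · rw [← ord_pow' hg0 r, ← hdet, Scheme.ord_mul ((map_ne_zero_iff _ (am_injective z)).2 hA) hC0,
        Groth.L15.SecOrd.ord_am hz hA]
  choose! g l k hg0 hl0 hgt hk hord hlat using hloc
  choose! t ht hte using hgt
  let dM : X → ℤ := fun z => -Scheme.ord (g z) z
  have hdM : HasDiv M dM := by
    refine ⟨Submodule.Quotient.mk e₀, fun h => he₀0 ((Groth.L15.SecOrd.mk_bijective M).1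
      (h.trans (Submodule.Quotient.mk_zero _).symm)), fun z hz => ?_⟩
    have ht0 : toEta M z (t z) ≠ 0 := by
      rw [hte z hz]
      exact fun h => hg0 z hz ((Groth.L15.Ref.bijective_smul_of_ne_zero hM1.2.2 he₀0).1 (h.trans (zero_smul _ _).symm))
    have h1 : e₀ = (((g z)⁻¹ : X.functionField) : X.presheaf.stalk η) • toEta M z (t z) := by
      rw [hte z hz, smul_smul]
      exact ((congrArg (· • e₀) (inv_mul_cancel₀ (hg0 z hz))).trans (one_smul (X.presheaf.stalk η) _)).symm
    rw [h1, Groth.L15.Ref.secOrdAt_eq hM1.2.2 hz _ (ht z hz) ht0 (inv_ne_zero (hg0 z hz))]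
    exact ord_inv' (hg0 z hz)
  have hdW := Groth.L15.Ref.hasDiv_ddual hX hWc hω l fun z hz => ⟨hl0 z hz, hlat z hz⟩
  have hW1 := Groth.L15.Ref.isRef1_ddual hWc hω
  have hR := Groth.L15.Ref.isRef1_refPow hM1 r
  have hRd := Groth.L15.Ref.isRef1_dual hR
  have hdR := hasDiv_refPow hX hM1 hdM r
  have hdRd := Groth.L15.Ref.hasDiv_dual hX hR hdR
  have hT := Groth.L15.Ref.isRef1_refTensor hW1 hRd
  have hdT := Groth.L15.Ref.hasDiv_refTensor hX hW1 hRd hdW hdRd
  have hval : ∀ z : X, Order.coheight z = 1 →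
      ((fun z => -Scheme.ord (l z) z) + -(r • dM)) z = (k z : ℤ) := fun z hz => by
    show -Scheme.ord (l z) z + -((r • dM) z) = _
    rw [Pi.smul_apply, nsmul_eq_mul]
    have := hord z hz
    simp only [dM]
    linarith
  obtain ⟨K, hK, hKmem, hKfun⟩ := exists_cokernel_class (b := b) hδ hX hη hT hdT fun z hz => by
    rw [hval z hz]; positivity
  have hP := Groth.L15.Ref.isCoh_tensorMod (Groth.L16.ProperFinite.isCoh_of_isInvertible hN) (isCoh_freeMod' X r)
  have hPf := Groth.L29.LocFree.of_iso (Groth.L00.Tensor.tensorComm _ _) (Groth.L16.NegPow.isFinLocFree_freeTensor hN r)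
  obtain ⟨hC, hCmem⟩ := sub_eq_cokernel_mem_Fil (b := b) hδ hη hP hPf hF φ hφ
  have hsf : Cyc.sheafFun δ (n - 1) (cokernel φ) = (1 : ℤ) • Cyc.sheafFun δ (n - 1) K := by
    funext z
    rw [one_smul]
    by_cases hz : δ z = n - 1
    · rw [hKfun z hz, hval z (coheight_of_dim hδ.2.2 hX (by omega))]
      simp only [Cyc.sheafFun, hz, if_true]
      rw [hk z (coheight_of_dim hδ.2.2 hX (by omega))]
    · simp only [Cyc.sheafFun, if_neg hz]
  have h3 := sub_zsmul_mem_Fil (n := n) (b := b) hδ (show n - 1 ≤ n by omega) 1 hC hK hsf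
  rw [sub_sub, show (1 : ℤ) + 1 = 2 from rfl] at h3
  have hbot : Fil δ n b (n - 2) = ⊥ := Fil_le_bot hb
  rw [hbot, AddSubgroup.mem_bot] at h3 hCmem hKmem
  rw [one_smul, sub_eq_zero] at h3
  have hlin := prodD_refPow hδ hX hη (Fin.elim0 : Fin 0 → X.Modules) (fun i => i.elim0) (b := b)
    (by push_cast; omega) hM1 r
  have hz := hdR
  have hRR := Groth.L15.Ref.hasDiv_refTensor hX hR hRd hdR hdRd
  rw [add_neg_cancel] at hRR
  obtain ⟨iRR⟩ := Groth.L15.Ref.iso_of_hasDiv hX (Groth.L15.Ref.isRef1_refTensor hR hRd)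
    Groth.L15.Ref.isRef1_structureModule hRR Groth.L15.Ref.hasDiv_structureModule
  have h4 := refTensor_sub_mem_Fil (b := b) hδ hX hη hR hRd
  have h5 := refTensor_sub_mem_Fil (b := b) hδ hX hη hW1 hRd
  rw [hbot, AddSubgroup.mem_bot] at h4 h5
  rw [show Cyc.toK0CohQuot δ n b (RefPow.refTensor (RefPow.refPow M r) (RefHull.dual (RefPow.refPow M r))) =
    Cyc.toK0CohQuot δ n b (Coh.structureModule X) from
      toK0_iso iRR (cohLe_of_le hn (Groth.L15.Ref.isRef1_refTensor hR hRd).1)] at h4
  rw [toK0_tensorFree hn hN] at hCmem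
  change Cyc.toK0CohQuot δ n b (RefPow.refPow M r) =
    Cyc.toK0CohQuot δ n b (Coh.structureModule X) + r • xcl δ n b M at hlin
  rw [hlin] at h4
  change Cyc.toK0CohQuot δ n b (RefPow.refTensor (RefHull.ddual W) (RefHull.dual (RefPow.refPow M r))) - _ - _ = 0 at hKmem
  have eM : Cyc.toK0CohQuot δ n b M = Cyc.toK0CohQuot δ n b N :=
    toK0_iso (Groth.L00.Tensor.tensorUnitRight N) (cohLe_of_le hn hM1.1)
  simp only [xcl, eM, nsmul_sub] at h4 ⊢
  rw [← h3] at hKmem
  linear_combination (norm := abel) hCmem - hKmem + h5 - h4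

end Groth.L21.RefK
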