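import Groth.Agent.L21.RefK.Rank1
import Groth.Agent.L19.InvOfTensor

/-!
Helpers for statements on `K(X)` and the reflexive divisors.
-/

set_option autoImplicit false
set_option linter.style.haveILetI false
set_option backward.isDefEq.respectTransparency false
set_option backward.isDefEq.respectTransparency.types false

universe u

open CategoryTheory CategoryTheory.Limits AlgebraicGeometry Groth.L22.LatDeg

noncomputable section

namespace Groth.L21.RefK

variable {X : Scheme.{u}} [IsLocallyNoetherian X] [IsIntegral X] {δ : X → ℤ} {n b : ℤ}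

omit [IsIntegral X] in
theorem eq_of_mk_neg_one (h0 : ∀ x, 0 ≤ δ x) {z w : KZero.K0sub (Cyc.CohLe δ n)}
    (h : (QuotientAddGroup.mk z : Cyc.K0CohQuot δ n (-1)) = QuotientAddGroup.mk w) : z = w := by
  have hbot : AddSubgroup.closure {c : KZero.K0sub (Cyc.CohLe δ n) | ∃ F : X.Modules, Cyc.CohLe δ (-1) F ∧
      c = KZero.clSub (Cyc.CohLe δ n) F} = ⊥ := by
    rw [AddSubgroup.closure_eq_bot_iff]
    rintro _ ⟨F, hF, rfl⟩
    have hz : IsZero F := (Groth.L21.Mod.isZero_iff_stalk_subsingleton F).2 fun x => subsingleton_of_cohLe_neg h0 hF x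
    exact Groth.L29.KSub.clSub_zero _ hz (cohLe_of_isZero hz n)
  rw [QuotientAddGroup.eq, hbot, AddSubgroup.mem_bot, neg_add_eq_zero] at h
  exact h

/-- Alternating sums of differences of twists. -/
theorem alt_sum_sub_eq (hn : ∀ x, δ x ≤ n) {r : ℕ} (M : Fin r → X.Modules) (hM : ∀ i, PicF.IsInvertible (M i))
    {A B : X.Modules} (hA : Coh.IsCoh A) (hB : Coh.IsCoh B) :
    ∑ I : Finset (Fin r), ((-1 : ℤ) ^ I.card) •
        (Cyc.toK0CohQuot δ n b (CohB1.tensorMod (FGA.tensorList ((I.sort (· ≤ ·)).map M)) A) -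
          Cyc.toK0CohQuot δ n b (CohB1.tensorMod (FGA.tensorList ((I.sort (· ≤ ·)).map M)) B)) =
      prodD M hM (Cyc.toK0CohQuot δ n b A - Cyc.toK0CohQuot δ n b B) := by
  simp only [zsmul_sub, Finset.sum_sub_distrib]
  rw [alt_sum_eq hn M hM hA, alt_sum_eq hn M hM hB, map_sub]

theorem dQ_tensor (hn : ∀ x, δ x ≤ n) {P Q : X.Modules} (hP : PicF.IsInvertible P) (hQ : PicF.IsInvertible Q)
    (hPQ : PicF.IsInvertible (CohB1.tensorMod P Q)) (z : Cyc.K0CohQuot δ n b) :
    dQ hPQ z = dQ hP z + dQ hQ z - dQ hP (dQ hQ z) := by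
  have hc : ∀ {L : X.Modules}, PicF.IsInvertible L → Coh.IsCoh L := fun h => Groth.L16.ProperFinite.isCoh_of_isInvertible h
  have key : twQ hPQ z = twQ hP (twQ hQ z) := by
    obtain ⟨z, rfl⟩ := QuotientAddGroup.mk_surjective z
    refine DFunLike.congr_fun (Groth.L29.KSub.hom_ext
      (φ := (twQ hPQ).comp (QuotientAddGroup.mk' _)) (ψ := ((twQ hP).comp (twQ hQ)).comp (QuotientAddGroup.mk' _))
      fun A hA => ?_) z
    show twQ hPQ (Cyc.toK0CohQuot δ n b A) = twQ hP (twQ hQ (Cyc.toK0CohQuot δ n b A))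
    rw [twQ_toK0 hPQ hA, twQ_toK0 hQ hA, twQ_toK0 hP (cohLe_tensor (hc hQ) hA)]
    exact toK0_iso (Groth.L00.Tensor.tensorAssoc _ _ _) (cohLe_tensor (hc hPQ) hA)
  simp only [dQ, AddMonoidHom.sub_apply, AddMonoidHom.id_apply, key, map_sub]
  abel

omit [IsLocallyNoetherian X] [IsIntegral X] in
theorem isInvertible_inverse {L M : X.Modules} (h : Nonempty (CohB1.tensorMod L M ≅ Coh.structureModule X)) :
    PicF.IsInvertible M :=
  Groth.L19.InvOfTensor.isInvertible (Groth.L00.Tensor.tensorComm M L ≪≫ h.some)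

end Groth.L21.RefK
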