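import Groth.Agent.L21.RefK.Cartier
import Groth.Agent.L15.Ref.ExtDiv
import Groth.Agent.L21.Duality.Omega
import Groth.Agent.L20.FibreFree
import Groth.Agent.L18.Frame
import Groth.Agent.L18.Ample
import Groth.Agent.L14.Quot.Pull
import Groth.Agent.L16.AffineBC.Pullback
import Groth.Prelude.Def_Frob

/-!
Reflexive Frobenius pullbacks of rank one reflexive modules are reflexive powers.
-/

set_option autoImplicit false
set_option linter.style.haveILetI false
set_option backward.isDefEq.respectTransparency false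
set_option backward.isDefEq.respectTransparency.types false

universe u

open CategoryTheory CategoryTheory.Limits AlgebraicGeometry TopologicalSpace Opposite

noncomputable section

namespace Groth.L21.RefK

open Groth.L18.Frame (IsFrame rs pull pull_rs pull_smul)
open Groth.L15.Ref (HasDiv toEta toEta_germ eta_mem)
open Groth.L15.CDivLib (am)

variable {X : Scheme.{u}} [IsIntegral X]

/-- The generic germ of a frame generates the generic stalk. -/
theorem bijective_smul_germ {F : X.Modules} {W : X.Opens} {e : Γ(F, W)} (he : IsFrame F W e)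
    (hη : genericPoint X ∈ W) : Function.Bijective fun a : X.presheaf.stalk (genericPoint X) =>
      a • F.presheaf.germ W (genericPoint X) hη e := by
  have h := Groth.L03.Euler.bijective_toSpanSingleton_germ he hη
  exact h

variable [IsLocallyNoetherian X]

theorem ord_one' (z : X) : Scheme.ord (1 : X.functionField) z = 0 := by
  have h := Scheme.ord_mul (x := z) (one_ne_zero (α := X.functionField)) one_ne_zero
  rw [one_mul] at h
  omega

theorem ord_inv' {z : X} {φ : X.functionField} (h : φ ≠ 0) : Scheme.ord φ⁻¹ z = -Scheme.ord φ z := by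
  have h2 := Scheme.ord_mul (x := z) h (inv_ne_zero h)
  rw [mul_inv_cancel₀ h, ord_one'] at h2
  omega

theorem ord_pow' {z : X} {φ : X.functionField} (h : φ ≠ 0) : ∀ n : ℕ, Scheme.ord (φ ^ n) z = n * Scheme.ord φ z
  | 0 => by simp [ord_one']
  | n + 1 => by rw [pow_succ, Scheme.ord_mul (pow_ne_zero n h) h, ord_pow' h n]; push_cast; ring

/-- A rank one reflexive module has frames at points of codimension one. -/
theorem exists_frame_codimOne (hX : Pi1.IsNormalScheme X) {F : X.Modules} (hF : RefHull.IsRef1 F) {z : X}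
    (hz : Order.coheight z = 1) : ∃ (W : X.Opens) (e : Γ(F, W)), z ∈ W ∧ IsFrame F W e := by
  haveI := Groth.L15.CDivLib.isDVR_of_coheight hX hz
  haveI : Coh.IsQCoh F := hF.1.1
  haveI := Groth.L15.Ref.isTorsionFree_stalk hF.1 hF.2.1 z
  obtain ⟨t, ht, ht0⟩ := Groth.L15.Ref.exists_gen_dvr hF z
  have hbij : Function.Bijective (LinearMap.toSpanSingleton (X.presheaf.stalk z) (F.presheaf.stalk z) t) := by
    refine ⟨(injective_iff_map_eq_zero _).2 fun a ha => ?_,
      fun v => Submodule.mem_span_singleton.1 (ht.ge (Submodule.mem_top (x := v)))⟩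
    by_contra ha0
    have : t = 0 := (IsRegular.of_ne_zero ha0).isSMulRegular (show a • t = a • 0 by rw [smul_zero]; exact ha)
    exact ht0 (by rw [this, map_zero])
  let θ := LinearEquiv.ofBijective _ hbij
  haveI : Module.Flat (X.presheaf.stalk z) (F.presheaf.stalk z) := Module.Flat.of_linearEquiv θ.symm
  obtain ⟨U, n, hzU, ⟨e⟩⟩ := Groth.L20.FibreFree.exists_free_nhd F (Groth.L15.Ref.isFP_of_isCoh hF.1) z inferInstance
  obtain ⟨s, hs⟩ := Groth.L17.FinLocBases.exists_isBasis F e
  have hb := Groth.L19.ProjBdl.isBasisOn_of_locBases hs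
  have hzU' : z ∈ U.ι ''ᵁ ⊤ := by rw [U.ι_image_top]; exact hzU
  let θn := LinearEquiv.ofBijective (Fintype.linearCombination (X.presheaf.stalk z)
    (fun i => F.presheaf.germ (U.ι ''ᵁ ⊤) z hzU' (s i))) (Groth.L17.PullBasis.bijective_stalk F s hb.locBases z hzU')
  obtain rfl : n = 1 := by simpa using (θn.trans θ.symm).finrank_eq
  refine ⟨U.ι ''ᵁ ⊤, s 0, hzU', fun V h => ?_⟩
  have h1 : (fun a : Γ(X, V) => a • rs F h (s 0)) =
      Groth.L19.ProjBdl.lc F s h ∘ fun a _ => a := funext fun a => by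
    simp [Groth.L19.ProjBdl.lc]
  rw [h1]
  exact (hb V h).comp ⟨fun a b hab => congrFun hab 0,
    fun c => ⟨c 0, funext fun j => by rw [Subsingleton.elim j 0]⟩⟩

/-- Rank one reflexive modules are closed under isomorphism. -/
theorem isRef1_of_iso {F G : X.Modules} (e : F ≅ G) (hF : RefHull.IsRef1 F) : RefHull.IsRef1 G := by
  have hG : Coh.IsCoh G := Groth.L14.Quot.isCoh_of_iso e hF.1
  refine ⟨hG, (Groth.L15.Ref.isReflexive_iff_stalks hG).2 fun x => ?_, ?_⟩
  · haveI : Module.IsReflexive (X.presheaf.stalk x) (F.presheaf.stalk x) :=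
      (Groth.L15.Ref.isReflexive_iff_stalks hF.1).1 hF.2.1 x
    have h1 : Function.Bijective (RefHull.stalkMapₗ e.hom x) :=
      ConcreteCategory.bijective_of_isIso ((TopCat.Presheaf.stalkFunctor Ab x).map ((Scheme.Modules.toPresheaf X).map e.hom))
    exact Module.equiv (LinearEquiv.ofBijective _ h1)
  · obtain ⟨U, hU, hUi⟩ := hF.2.2
    exact ⟨U, hU, Groth.L18.Ample.isInvertible_of_iso ((Scheme.Modules.restrictFunctor U.ι).mapIso e) hUi⟩

variable (p : ℕ) [Fact p.Prime] [FrobSch.IsCharP X p]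

/-- The reflexive hull of the Frobenius pullback is the `p`-th reflexive power. -/
theorem nonempty_ddual_frob_iso (hX : Pi1.IsNormalScheme X) {F : X.Modules} (hF : RefHull.IsRef1 F) :
    Nonempty (RefHull.ddual ((Scheme.Modules.pullback (FrobSch.frob X p)).obj F) ≅ RefPow.refPow F p) := by
  classical
  let f := FrobSch.frob X p
  let P := (Scheme.Modules.pullback f).obj F
  haveI : Coh.IsQCoh F := hF.1.1
  have hP : Coh.IsCoh P := Groth.L16.AffineBC.isCoh_pullback f hF.1
  -- a frame at the generic point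
  obtain ⟨U, hU, hUinv⟩ := hF.2.2
  obtain ⟨U₀, e₀, -, hη₀, he₀⟩ := Groth.L15.Ref.exists_frame_of_restrict hUinv
    (show genericPoint X ∈ U from ((genericPoint_spec X).mem_open_set_iff U.2).2 (by simpa using hU.nonempty))
  let η := genericPoint X
  let s' := F.presheaf.germ U₀ η hη₀ e₀
  have hs' : s' ≠ 0 := fun h => one_ne_zero (α := X.functionField)
    ((bijective_smul_germ he₀ hη₀).1 (a₁ := 1) (a₂ := 0) ((one_smul (X.presheaf.stalk η) s').trans (h.trans (zero_smul _ _).symm)))
  have he₀' : IsFrame P U₀ (pull f F U₀ e₀) := he₀.pullback f F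
  let ω := P.presheaf.germ U₀ η hη₀ (pull f F U₀ e₀)
  -- coefficients of frames in codimension one
  have hcoef : ∀ z : X, Order.coheight z = 1 → ∃ φ : X.functionField, φ ≠ 0 ∧
      (∃ t : F.presheaf.stalk z, Submodule.span (X.presheaf.stalk z) {t} = ⊤ ∧
        toEta F z t = (φ : X.presheaf.stalk η) • s') ∧
      ∃ g : P.presheaf.stalk z, toEta P z g = ((φ ^ p : X.functionField) : X.presheaf.stalk η) • ω ∧
        Function.Surjective fun a : X.presheaf.stalk z => a • g := by
    intro z hz
    obtain ⟨W, e, hzW, he⟩ := exists_frame_codimOne hX hF hz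
    have hηW : η ∈ W ⊓ U₀ := ⟨eta_mem hzW, hη₀⟩
    obtain ⟨r, hr⟩ := he₀.exists_coeff (inf_le_right : W ⊓ U₀ ≤ U₀) (rs F inf_le_left e)
    let φ : X.functionField := X.presheaf.germ (W ⊓ U₀) η hηW r
    have hF1 : F.presheaf.germ W η (eta_mem hzW) e = (φ : X.presheaf.stalk η) • s' := by
      rw [← Groth.L20.ModStalk.germ_rs F (inf_le_left : W ⊓ U₀ ≤ W) hηW e, ← hr, Groth.L20.ModStalk.germ_smul,
        Groth.L20.ModStalk.germ_rs]
    have hP1 : P.presheaf.germ W η (eta_mem hzW) (pull f F W e) = ((φ ^ p : X.functionField) : X.presheaf.stalk η) • ω := by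
      rw [← Groth.L20.ModStalk.germ_rs P (inf_le_left : W ⊓ U₀ ≤ W) hηW (pull f F W e)]
      have h2 : rs P (inf_le_left : W ⊓ U₀ ≤ W) (pull f F W e) =
          (r ^ p) • rs P (inf_le_right : W ⊓ U₀ ≤ U₀) (pull f F U₀ e₀) := by
        show rs P (f.preimage_mono inf_le_left) (pull f F W e) =
          (f.app (W ⊓ U₀) r) • rs P (f.preimage_mono inf_le_right) (pull f F U₀ e₀)
        rw [pull_rs, pull_rs, ← pull_smul, hr]
        all_goals first | exact inf_le_left | exact inf_le_right
      rw [h2, Groth.L20.ModStalk.germ_smul, Groth.L20.ModStalk.germ_rs, map_pow]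
    have hb := Groth.L03.Euler.bijective_toSpanSingleton_germ he hzW
    have hbP := Groth.L03.Euler.bijective_toSpanSingleton_germ (he.pullback f F) hzW
    refine ⟨φ, fun h0 => ?_, ⟨F.presheaf.germ W z hzW e, ?_, by rw [toEta_germ]; exact hF1⟩,
      P.presheaf.germ W z hzW (pull f F W e), by rw [toEta_germ]; exact hP1, hbP.2⟩
    · have h4 : F.presheaf.germ W η (eta_mem hzW) e = 0 := by rw [hF1, h0]; exact zero_smul _ _
      exact one_ne_zero (α := X.functionField) ((bijective_smul_germ he (eta_mem hzW)).1 (a₁ := 1) (a₂ := 0)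
        ((one_smul (X.presheaf.stalk η) _).trans (h4.trans (zero_smul _ _).symm)))
    · exact Submodule.eq_top_iff'.2 fun v => Submodule.mem_span_singleton.2 (hb.2 v)
  choose! φ hφ0 htg hgg using hcoef
  choose! t ht hte using htg
  choose! g hg hgs using hgg
  let d : X → ℤ := fun z => -Scheme.ord (φ z) z
  have hd : HasDiv F d := by
    refine ⟨Submodule.Quotient.mk s', fun h => hs' ((Groth.L15.SecOrd.mk_bijective F).1
      (h.trans (Submodule.Quotient.mk_zero _).symm)), fun z hz => ?_⟩
    have ht0 : toEta F z (t z) ≠ 0 := by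
      rw [hte z hz]
      exact fun h => hφ0 z hz ((Groth.L15.Ref.bijective_smul_of_ne_zero hF.2.2 hs').1 (h.trans (zero_smul _ _).symm))
    have h1 : s' = (((φ z)⁻¹ : X.functionField) : X.presheaf.stalk η) • toEta F z (t z) := by
      rw [hte z hz, smul_smul]
      exact ((congrArg (· • s') (inv_mul_cancel₀ (hφ0 z hz))).trans (one_smul (X.presheaf.stalk η) _)).symm
    rw [h1, Groth.L15.Ref.secOrdAt_eq hF.2.2 hz _ (ht z hz) ht0 (inv_ne_zero (hφ0 z hz))]
    exact ord_inv' (hφ0 z hz)
  have hD : HasDiv (RefHull.ddual P) fun z => -Scheme.ord (φ z ^ p) z := by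
    refine Groth.L15.Ref.hasDiv_ddual hX hP (bijective_smul_germ he₀' hη₀) _ fun z hz =>
      ⟨pow_ne_zero _ (hφ0 z hz), ⟨g z, hg z hz⟩, fun w => ?_⟩
    obtain ⟨a, rfl⟩ := hgs z hz w
    exact ⟨a, by rw [Groth.L15.Ref.toEta_smul, hg z hz]⟩
  obtain ⟨s₂, hs₂, hs₂'⟩ := hasDiv_refPow hX hF hd p
  refine Groth.L15.Ref.iso_of_hasDiv hX (Groth.L15.Ref.isRef1_ddual hP (bijective_smul_germ he₀' hη₀))
    (Groth.L15.Ref.isRef1_refPow hF p) hD ⟨s₂, hs₂, fun z hz => (hs₂' z hz).trans ?_⟩
  dsimp only
  rw [ord_pow' (hφ0 z hz), Pi.smul_apply, nsmul_eq_mul]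
  simp [d]

end Groth.L21.RefK
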