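import Groth.Agent.L21.RefK.Frob
import Groth.Agent.L21.RefK.Final
import Groth.Agent.L22.Cyc.LenTensor
import Groth.Agent.L05.FibreDecomp.Alg
import Groth.Agent.L29.LocFree
import Groth.Agent.L29.DCoh.TensorPerfect
import Groth.Agent.L29.DCoh.PullTensor
import Groth.Agent.L18.LefTwists
import Groth.Agent.L00.PullStalk
import Groth.Agent.L22.LatDeg.DevEquiv
import Mathlib.RingTheory.Flat.TorsionFree
import Mathlib.LinearAlgebra.FreeModule.PID

/-!
Classes of reflexive Frobenius pullbacks modulo codimension two.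
-/

set_option autoImplicit false
set_option linter.style.haveILetI false
set_option backward.isDefEq.respectTransparency false
set_option backward.isDefEq.respectTransparency.types false

universe u

open CategoryTheory CategoryTheory.Limits AlgebraicGeometry TopologicalSpace Opposite TensorProduct
open Groth.L22.LatDeg

noncomputable section

namespace Groth.L21.RefK

variable {X : Scheme.{u}} [IsIntegral X] [IsLocallyNoetherian X]

local notation "St" => Groth.L00.Stk.F X

theorem isReflexive_of_iso {F G : X.Modules} (e : F ≅ G) (hF : Coh.IsCoh F) (hr : RefHull.IsReflexive F) :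
    RefHull.IsReflexive G := by
  refine (Groth.L15.Ref.isReflexive_iff_stalks (Groth.L14.Quot.isCoh_of_iso e hF)).2 fun x => ?_
  haveI : Module.IsReflexive (X.presheaf.stalk x) (F.presheaf.stalk x) :=
    (Groth.L15.Ref.isReflexive_iff_stalks hF).1 hr x
  let e' : F.presheaf.stalk x ≃ₗ[X.presheaf.stalk x] G.presheaf.stalk x := ((St x).mapIso e).toLinearEquiv
  exact Module.equiv e'

theorem free_stalk_of_isReflexive {G : X.Modules} (hG : Coh.IsCoh G) (hr : RefHull.IsReflexive G) (z : X)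
    [IsPrincipalIdealRing (X.presheaf.stalk z)] : Module.Free (X.presheaf.stalk z) (G.presheaf.stalk z) := by
  haveI := Groth.L15.Ref.isTorsionFree_stalk hG hr z
  haveI := Groth.L15.Ref.finite_stalk hG z
  exact Module.free_of_finite_type_torsion_free'

theorem isIso_bidual_stalk {P : X.Modules} (hP : Coh.IsCoh P) (z : X)
    (h : Module.Free (X.presheaf.stalk z) (P.presheaf.stalk z)) :
    IsIso ((St z).map (RefHull.bidualMap P)) := by
  haveI := Groth.L15.Ref.isQCoh_structureModule (X := X)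
  haveI := h
  haveI := Groth.L15.Ref.finite_stalk hP z
  have hr : RefHull.IsReflexiveAt P z := inferInstanceAs (Module.IsReflexive _ _)
  have h1 := (Groth.L15.Ref.bidualAt_bijective_iff hP z).2 hr
  rw [← Groth.L15.Ref.stalkMapₗ_bidual] at h1
  exact (ConcreteCategory.isIso_iff_bijective _).2 ((Function.Bijective.of_comp_iff'
    (Groth.L15.Ref.evalStalk_bijective (RefHull.dual P) (Coh.structureModule X) (Groth.L15.Ref.isCoh_dual hP) z) _).1 h1)

variable (p : ℕ) [Fact p.Prime] [FrobSch.IsCharP X p]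

omit [IsIntegral X] [IsLocallyNoetherian X] in
theorem stalkMap_frob (x : X) (a : X.presheaf.stalk x) : ((FrobSch.frob X p).stalkMap x).hom a = a ^ p := by
  obtain ⟨U, hx, s, rfl⟩ := TopCat.Presheaf.exists_germ_eq (F := X.presheaf) (x := x) a
  refine (Scheme.Hom.germ_stalkMap_apply (FrobSch.frob X p) U x hx s).trans ?_
  rw [FrobSch.frob_app]
  exact map_pow _ _ _

theorem flat_frob_stalk (z : X) [IsPrincipalIdealRing (X.presheaf.stalk z)] :
    @Module.Flat (X.presheaf.stalk z) (X.presheaf.stalk z) _ _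
      (((FrobSch.frob X p).stalkMap z).hom.toAlgebra).toModule := by
  let B := X.presheaf.stalk (FrobSch.frob X p z)
  let C := X.presheaf.stalk z
  haveI : IsPrincipalIdealRing B := ‹IsPrincipalIdealRing (X.presheaf.stalk z)›
  letI : Algebra B C := ((FrobSch.frob X p).stalkMap z).hom.toAlgebra
  haveI : IsDomain B := inferInstance
  haveI : FaithfulSMul B C := (faithfulSMul_iff_algebraMap_injective B C).2
    ((injective_iff_map_eq_zero _).2 fun a ha => by
      have h1 : (a : C) ^ p = 0 := (stalkMap_frob p z a).symm.trans ha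
      exact eq_zero_of_pow_eq_zero h1)
  show Module.Flat B C
  infer_instance

theorem free_stalk_frob {G : X.Modules} (hG : Coh.IsCoh G) (hr : RefHull.IsReflexive G) (z : X)
    [IsPrincipalIdealRing (X.presheaf.stalk z)] : Module.Free (X.presheaf.stalk z)
      (((Scheme.Modules.pullback (FrobSch.frob X p)).obj G).presheaf.stalk z) := by
  letI : Algebra (X.presheaf.stalk (FrobSch.frob X p z)) (X.presheaf.stalk z) :=
    ((FrobSch.frob X p).stalkMap z).hom.toAlgebra
  haveI : Module.Free (X.presheaf.stalk (FrobSch.frob X p z)) (G.presheaf.stalk (FrobSch.frob X p z)) :=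
    free_stalk_of_isReflexive hG hr z
  let e : ((Scheme.Modules.pullback (FrobSch.frob X p)).obj G).presheaf.stalk z ≃ₗ[X.presheaf.stalk z]
      X.presheaf.stalk z ⊗[X.presheaf.stalk (FrobSch.frob X p z)] G.presheaf.stalk (FrobSch.frob X p z) :=
    ((Groth.L00.PullStalk.stalkIso (FrobSch.frob X p) z).app G).toLinearEquiv
  exact Module.Free.of_equiv e.symm

/-- Frobenius pullback multiplies lengths at points of codimension one by `p`. -/
theorem length_frob (T : X.Modules) (z : X) [IsDiscreteValuationRing (X.presheaf.stalk z)] :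
    Module.length (X.presheaf.stalk z) (((Scheme.Modules.pullback (FrobSch.frob X p)).obj T).presheaf.stalk z) =
      Module.length (X.presheaf.stalk z) (T.presheaf.stalk z) * p := by
  let B := X.presheaf.stalk (FrobSch.frob X p z)
  let C := X.presheaf.stalk z
  letI : Algebra B C := ((FrobSch.frob X p).stalkMap z).hom.toAlgebra
  haveI : Module.Flat B C := flat_frob_stalk p z
  haveI : IsLocalHom (algebraMap B C) := (FrobSch.frob X p).toLRSHom.prop z
  let e : ((Scheme.Modules.pullback (FrobSch.frob X p)).obj T).presheaf.stalk z ≃ₗ[C]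
      C ⊗[B] T.presheaf.stalk (FrobSch.frob X p z) :=
    ((Groth.L00.PullStalk.stalkIso (FrobSch.frob X p) z).app T).toLinearEquiv
  rw [e.length_eq, Groth.L22.Cyc.length_tensor]
  refine congrArg₂ (· * ·) rfl ?_
  rw [← (Algebra.TensorProduct.quotIdealMapEquivTensorQuot C (IsLocalRing.maximalIdeal B)).toLinearEquiv.length_eq]
  obtain ⟨π, hπ⟩ := IsDiscreteValuationRing.exists_irreducible C
  have hm : IsLocalRing.maximalIdeal B = Ideal.span {(π : B)} := hπ.maximalIdeal_eq
  have h2 : algebraMap B C π = π ^ p := stalkMap_frob p z π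
  have hm2 : (IsLocalRing.maximalIdeal B).map (algebraMap B C) = Ideal.span {(π : C) ^ p} := by
    refine ((congrArg (Ideal.map (algebraMap B C)) hm).trans (Ideal.map_span _ _)).trans ?_
    exact congrArg Ideal.span (Set.image_singleton.trans (congrArg Singleton.singleton h2))
  refine (Submodule.quotEquivOfEq _ _ hm2).length_eq.trans ?_
  exact Groth.L05.FibreDecomp.length_quotient_span_pow hπ.maximalIdeal_eq hπ.ne_zero p

omit [IsIntegral X] [IsLocallyNoetherian X] [Fact p.Prime] [FrobSch.IsCharP X p] in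
theorem isCoh_freeMod' (X : Scheme.{u}) [IsLocallyNoetherian X] (r : ℕ) : Coh.IsCoh (FlatMod.freeMod X r) :=
  Groth.L16.NegPow.isCoh_of_isFinLocFree (Groth.L29.DC.isFinLocFree_freeMod X r)

/-- One step along reflexive Frobenius pullbacks. -/
theorem frob_step {G G' P : X.Modules} (hG : Coh.IsCoh G) (hr : RefHull.IsReflexive G)
    (j : G' ≅ RefHull.ddual ((Scheme.Modules.pullback (FrobSch.frob X p)).obj G)) (φ : P ⟶ G) :
    Coh.IsCoh G' ∧ RefHull.IsReflexive G' ∧
      ∃ φ' : (Scheme.Modules.pullback (FrobSch.frob X p)).obj P ⟶ G',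
        (IsIso ((St (genericPoint X)).map φ) → IsIso ((St (genericPoint X)).map φ')) ∧
        ∀ (z : X) [IsDiscreteValuationRing (X.presheaf.stalk z)],
          Module.length (X.presheaf.stalk z) ((cokernel φ').presheaf.stalk z) =
            Module.length (X.presheaf.stalk z) ((cokernel φ).presheaf.stalk z) * p := by
  let f := FrobSch.frob X p
  have hP : Coh.IsCoh ((Scheme.Modules.pullback f).obj G) := Groth.L16.AffineBC.isCoh_pullback f hG
  let g := RefHull.bidualMap ((Scheme.Modules.pullback f).obj G) ≫ j.inv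
  have hg : ∀ (z : X) [IsPrincipalIdealRing (X.presheaf.stalk z)], IsIso ((St z).map g) := fun z _ => by
    haveI := isIso_bidual_stalk hP z (free_stalk_frob p hG hr z)
    rw [Functor.map_comp]
    infer_instance
  refine ⟨Groth.L14.Quot.isCoh_of_iso j.symm (Groth.L15.Ref.isCoh_dual (Groth.L15.Ref.isCoh_dual hP)),
    isReflexive_of_iso j.symm (Groth.L15.Ref.isCoh_dual (Groth.L15.Ref.isCoh_dual hP))
      (Groth.L15.Ref.isReflexive_ddual hP), (Scheme.Modules.pullback f).map φ ≫ g, fun h => ?_, fun z _ => ?_⟩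
  · haveI : IsPrincipalIdealRing (X.presheaf.stalk (genericPoint X)) :=
      inferInstanceAs (IsPrincipalIdealRing X.functionField)
    haveI := hg (genericPoint X)
    haveI : IsIso ((St (genericPoint X)).map ((Scheme.Modules.pullback f).map φ)) := by
      refine (NatIso.isIso_map_iff (Groth.L00.PullStalk.stalkIso f (genericPoint X)) φ).2 ?_
      haveI : IsIso ((Groth.L00.Stk.F X (f (genericPoint X))).map φ) := h
      exact Functor.map_isIso (ModuleCat.extendScalars (Groth.L00.PullStalk.φ f (genericPoint X)))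
        ((Groth.L00.Stk.F X (f (genericPoint X))).map φ)
    rw [Functor.map_comp]
    infer_instance
  · haveI := hg z
    haveI := (Scheme.Modules.pullbackPushforwardAdjunction f).leftAdjoint_preservesColimits
    rw [← length_frob p (cokernel φ) z]
    let a := (Scheme.Modules.pullback f).map φ
    haveI : HasCokernel ((St z).map a ≫ (St z).map g) := inferInstance
    let e : (St z).obj (cokernel (a ≫ g)) ≅ (St z).obj ((Scheme.Modules.pullback f).obj (cokernel φ)) :=
      PreservesCokernel.iso (St z) (a ≫ g) ≪≫ cokernelIsoOfEq ((St z).map_comp a g) ≪≫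
        cokernelCompIsIso ((St z).map a) ((St z).map g) ≪≫ (PreservesCokernel.iso (St z) a).symm ≪≫
          (St z).mapIso (PreservesCokernel.iso (Scheme.Modules.pullback f) φ).symm
    exact e.toLinearEquiv.length_eq

variable {δ : X → ℤ} {n b : ℤ}

omit [Fact p.Prime] [FrobSch.IsCharP X p] in
theorem lt_top_dim (hδ : Cyc.IsDimFun X δ) {x : X} (h : genericPoint X ≠ x) : δ x < δ (genericPoint X) :=
  (hδ _ x ((genericPoint_spec X).specializes trivial) h).1

omit [Fact p.Prime] [FrobSch.IsCharP X p] in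
/-- Modules of dimension `m` with proportional multiplicities are proportional modulo dimension `m - 1`. -/
theorem sub_zsmul_mem_Fil (hδ : Cyc.IsSetup X δ) {m : ℤ} (hm : m ≤ n) {A B : X.Modules} (q : ℤ)
    (hA : Cyc.CohLe δ m A) (hB : Cyc.CohLe δ m B) (h : Cyc.sheafFun δ m A = q • Cyc.sheafFun δ m B) :
    Cyc.toK0CohQuot δ n b A - q • Cyc.toK0CohQuot δ n b B ∈ Fil δ n b (m - 1) := by
  obtain ⟨ψ, hψ, hinj, -⟩ := Groth.Agent.S1955.result X δ hδ m
  have h1 : (QuotientAddGroup.mk (KZero.clSub (Cyc.CohLe δ m) A - q • KZero.clSub (Cyc.CohLe δ m) B) :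
      Cyc.K0CohQuot δ m (m - 1)) = 0 := by
    rw [QuotientAddGroup.mk_sub, sub_eq_zero, QuotientAddGroup.mk_zsmul]
    refine hinj ?_
    rw [map_zsmul]
    change ψ (Cyc.toK0CohQuot δ m (m - 1) A) = q • ψ (Cyc.toK0CohQuot δ m (m - 1) B)
    rw [hψ A hA, hψ B hB, h]
  have h2 := incl_mem_Fil (b := b) (show m - 1 ≤ m by omega) hm h1
  rwa [map_sub, map_zsmul, incl_clSub hm hA, incl_clSub hm hB] at h2

omit [Fact p.Prime] [FrobSch.IsCharP X p] in
theorem cohLe_of_le (hn : ∀ x, δ x ≤ n) {A : X.Modules} (hA : Coh.IsCoh A) : Cyc.CohLe δ n A :=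
  ⟨hA, fun x _ => hn x⟩

omit [Fact p.Prime] [FrobSch.IsCharP X p] in
/-- The class of a map of modules which is bijective at the generic point. -/
theorem sub_eq_cokernel_mem_Fil (hδ : Cyc.IsSetup X δ) (hη : δ (genericPoint X) = n) {P G : X.Modules}
    (hP : Coh.IsCoh P) (hPf : FlatMod.IsFinLocFree P) (hG : Coh.IsCoh G) (φ : P ⟶ G)
    (hφ : IsIso ((St (genericPoint X)).map φ)) :
    Cyc.CohLe δ (n - 1) (cokernel φ) ∧
      Cyc.toK0CohQuot δ n b G - Cyc.toK0CohQuot δ n b P - Cyc.toK0CohQuot δ n b (cokernel φ) ∈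
        Fil δ n b (n - 2) := by
  have hn : ∀ x, δ x ≤ n := fun x => hη ▸ le_top_dim hδ.2.2 x
  have hbij := (ConcreteCategory.isIso_iff_bijective _).1 hφ
  have hc := Groth.L16.CohKernel.isCoh_kernel_cokernel hP hG φ
  refine ⟨cohLe_of_stalks hc.2 fun x hx => ?_, ?_⟩
  · obtain rfl : genericPoint X = x := by
      by_contra hne
      have := lt_top_dim hδ.2.2 hne
      omega
    exact subsingleton_cokernel_stalk φ _ hbij.2
  have hker : Cyc.CohLe δ (n - 2) (kernel φ) := cohLe_of_stalks hc.1 fun x hx => by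
    refine subsingleton_kernel_stalk φ x ((injective_iff_map_eq_zero _).2 fun v hv => ?_)
    haveI : Coh.IsQCoh P := hP.1
    obtain ⟨U, N, hxU, ⟨i⟩⟩ := hPf x
    obtain ⟨bs⟩ := Groth.L15.Ref.exists_basis_stalk_of_iso U.ι i ⟨x, hxU⟩
    haveI : Module.Free (X.presheaf.stalk x) (P.presheaf.stalk x) := Module.Free.of_basis bs
    haveI : Module.IsTorsionFree (X.presheaf.stalk x) (P.presheaf.stalk x) := inferInstance
    refine Groth.L15.Ref.toEta_injective x (hbij.1 ?_)
    have h := Groth.L15.Ref.toEta_stalkMapₗ φ x v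
    rw [show RefHull.stalkMapₗ φ x v = 0 from hv, map_zero] at h
    rw [map_zero, map_zero]
    exact h.symm
  have e := toK0_map (b := b) φ (cohLe_of_le hn hP) (cohLe_of_le hn hG)
  have h2 : Cyc.toK0CohQuot δ n b (kernel φ) ∈ Fil δ n b (n - 2) :=
    AddSubgroup.subset_closure ⟨_, hker, rfl⟩
  convert neg_mem h2 using 1
  linear_combination (norm := abel) -e

omit [Fact p.Prime] [FrobSch.IsCharP X p] in
theorem toK0_free (hn : ∀ x, δ x ≤ n) : ∀ r : ℕ, Cyc.toK0CohQuot δ n b (FlatMod.freeMod X r) =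
    r • Cyc.toK0CohQuot δ n b (Coh.structureModule X)
  | 0 => by
    rw [zero_nsmul]
    refine toK0_eq_zero (cohLe_of_isZero ?_ b)
    rw [IsZero.iff_id_eq_zero]
    exact Sigma.hom_ext _ _ fun i => i.elim0
  | r + 1 => by
    have hc : ∀ r, Cyc.CohLe δ n (FlatMod.freeMod X r) := fun r =>
      cohLe_of_le hn (isCoh_freeMod' X r)
    have e1 : FlatMod.freeMod X 1 ≅ Coh.structureModule X := coproductUniqueIso _
    rw [← toK0_iso (Groth.L29.LocFree.freeBiprodIso X r 1) (cohLe_biprod (hc r) (hc 1)),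
      toK0_biprod (hc r) (hc 1), toK0_free hn r, toK0_iso e1 (hc 1), succ_nsmul]

omit [IsIntegral X] [IsLocallyNoetherian X] in
/-- Frobenius pullback commutes with twists of free modules. -/
def frobTensorFree (N : X.Modules) (r : ℕ) :
    CohB1.tensorMod ((Scheme.Modules.pullback (FrobSch.frob X p)).obj N) (FlatMod.freeMod X r) ≅
      (Scheme.Modules.pullback (FrobSch.frob X p)).obj (CohB1.tensorMod N (FlatMod.freeMod X r)) :=
  Groth.L00.Tensor.tensorIso (Iso.refl _) (Groth.L29.LocFree.pullbackFreeIso (FrobSch.frob X p) r).symm ≪≫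
    Groth.L29.DC.PullTensor.pullTensor (FrobSch.frob X p) N (FlatMod.freeMod X r)

/-- Reflexive Frobenius pullbacks modulo codimension two. -/
theorem exists_frobClass (hδ : Cyc.IsSetup X δ) (hX : Pi1.IsNormalScheme X) (hη : δ (genericPoint X) = n)
    {r : ℕ} {N₀ : X.Modules} (hN₀ : PicF.IsInvertible N₀) (G : ℕ → X.Modules)
    (hG₀ : Coh.IsCoh (G 0)) (hr₀ : RefHull.IsReflexive (G 0))
    (hG : ∀ m, Nonempty (G (m + 1) ≅ RefHull.ddual ((Scheme.Modules.pullback (FrobSch.frob X p)).obj (G m))))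
    (φ₀ : CohB1.tensorMod N₀ (FlatMod.freeMod X r) ⟶ G 0) (hφ₀ : IsIso ((St (genericPoint X)).map φ₀)) :
    ∀ m, Coh.IsCoh (G m) ∧ ∃ N : X.Modules, PicF.IsInvertible N ∧ Nonempty (N ≅ RefPow.refPow N₀ (p ^ m)) ∧
      Cyc.toK0CohQuot δ n b (G m) - r • Cyc.toK0CohQuot δ n b N -
        ((p : ℤ) ^ m) • (Cyc.toK0CohQuot δ n b (G 0) - r • Cyc.toK0CohQuot δ n b N₀) ∈ Fil δ n b (n - 2) := by
  have hn : ∀ x, δ x ≤ n := fun x => hη ▸ le_top_dim hδ.2.2 x
  have hclass : ∀ {N : X.Modules}, PicF.IsInvertible N →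
      Cyc.toK0CohQuot δ n b (CohB1.tensorMod N (FlatMod.freeMod X r)) = r • Cyc.toK0CohQuot δ n b N := fun {N} hN => by
    rw [← twQ_toK0 hN (cohLe_of_le hn (isCoh_freeMod' X r)), toK0_free hn, map_nsmul,
      twQ_toK0 hN (cohLe_of_le hn Groth.L16.CohClosedPush.isCoh_structure)]
    exact congrArg (r • ·) (toK0_iso (Groth.L00.Tensor.tensorUnitRight N)
      (cohLe_of_le hn (Groth.L15.Ref.isCoh_tensorMod (Groth.L16.ProperFinite.isCoh_of_isInvertible hN)
        Groth.L16.CohClosedPush.isCoh_structure)))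
  have hmain : ∀ m, Coh.IsCoh (G m) ∧ RefHull.IsReflexive (G m) ∧
      ∃ (N : X.Modules) (φ : CohB1.tensorMod N (FlatMod.freeMod X r) ⟶ G m), PicF.IsInvertible N ∧
        Nonempty (N ≅ RefPow.refPow N₀ (p ^ m)) ∧ IsIso ((St (genericPoint X)).map φ) ∧
        ∀ (z : X) [IsDiscreteValuationRing (X.presheaf.stalk z)],
          Module.length (X.presheaf.stalk z) ((cokernel φ).presheaf.stalk z) =
            Module.length (X.presheaf.stalk z) ((cokernel φ₀).presheaf.stalk z) * ((p ^ m : ℕ) : ℕ∞) := by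
    intro m
    induction m with
    | zero =>
      refine ⟨hG₀, hr₀, N₀, φ₀, hN₀, ⟨eqToIso ?_⟩, hφ₀, fun z _ => by simp⟩
      rw [pow_zero]; rfl
    | succ m ih =>
      obtain ⟨hc, hr, N, φ, hN, ⟨i⟩, hφ, hlen⟩ := ih
      obtain ⟨j⟩ := hG m
      obtain ⟨hc', hr', φ', h1, h2⟩ := frob_step p hc hr j φ
      have hN' := Groth.L18.Ample.isInvertible_pullback (FrobSch.frob X p) hN
      refine ⟨hc', hr', (Scheme.Modules.pullback (FrobSch.frob X p)).obj N, (frobTensorFree p N r).hom ≫ φ',
        hN', ?_, ?_, fun z _ => ?_⟩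
      · obtain ⟨e⟩ := nonempty_ddual_frob_iso p hX (Groth.L15.Ref.isRef1_of_isInvertible hN)
        haveI : IsIso (RefHull.bidualMap ((Scheme.Modules.pullback (FrobSch.frob X p)).obj N)) :=
          (Groth.L15.Ref.isRef1_of_isInvertible hN').2.1
        have hR₀ := Groth.L15.Ref.isRef1_of_isInvertible hN₀
        obtain ⟨d, hd⟩ := Groth.L15.Ref.exists_hasDiv hR₀
        have hNd := Groth.L15.Ref.hasDiv_of_iso hX (Groth.L15.Ref.isRef1_refPow hR₀ (p ^ m))
          (Groth.L15.Ref.isRef1_of_isInvertible hN) ⟨i.symm⟩ (hasDiv_refPow hX hR₀ hd (p ^ m))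
        have h3 := hasDiv_refPow hX (Groth.L15.Ref.isRef1_of_isInvertible hN) hNd p
        rw [← mul_nsmul, ← pow_succ] at h3
        obtain ⟨i'⟩ := Groth.L15.Ref.iso_of_hasDiv hX (Groth.L15.Ref.isRef1_refPow (Groth.L15.Ref.isRef1_of_isInvertible hN) p)
          (Groth.L15.Ref.isRef1_refPow hR₀ (p ^ (m + 1))) h3 (hasDiv_refPow hX hR₀ hd (p ^ (m + 1)))
        exact ⟨asIso (RefHull.bidualMap _) ≪≫ e ≪≫ i'⟩
      · haveI := h1 hφ
        rw [Functor.map_comp]
        infer_instance
      · refine (((St z).mapIso (cokernelEpiComp (frobTensorFree p N r).hom φ')).toLinearEquiv.length_eq).trans ?_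
        refine (h2 z).trans ?_
        rw [hlen z, pow_succ, Nat.cast_mul, mul_assoc]
  intro m
  obtain ⟨hc, -, N, φ, hN, hi, hφ, hlen⟩ := hmain m
  refine ⟨hc, N, hN, hi, ?_⟩
  have hfree := fun {N : X.Modules} (hN : PicF.IsInvertible N) => Groth.L15.Ref.isCoh_tensorMod
    (Groth.L16.ProperFinite.isCoh_of_isInvertible hN) (isCoh_freeMod' X r)
  have hlf := fun {N : X.Modules} (hN : PicF.IsInvertible N) =>
    Groth.L29.LocFree.of_iso (Groth.L00.Tensor.tensorComm _ _) (Groth.L16.NegPow.isFinLocFree_freeTensor hN r)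
  obtain ⟨hT, hm⟩ := sub_eq_cokernel_mem_Fil (b := b) hδ hη (hfree hN) (hlf hN) hc φ hφ
  obtain ⟨hT₀, h0⟩ := sub_eq_cokernel_mem_Fil (b := b) hδ hη (hfree hN₀) (hlf hN₀) hG₀ φ₀ hφ₀
  have hq : Cyc.sheafFun δ (n - 1) (cokernel φ) = ((p : ℤ) ^ m) • Cyc.sheafFun δ (n - 1) (cokernel φ₀) := by
    funext z
    simp only [Cyc.sheafFun, Pi.smul_apply, smul_eq_mul]
    split_ifs with hz
    · haveI := isDVR_stalk hδ.2.2 hX z (by omega)
      rw [hlen z, ENat.toNat_mul, ENat.toNat_coe]
      push_cast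
      ring
    · rw [mul_zero]
  have h3 := sub_zsmul_mem_Fil (n := n) (b := b) hδ (show n - 1 ≤ n by omega) _ hT hT₀ hq
  rw [sub_sub, show (1 : ℤ) + 1 = 2 from rfl] at h3
  rw [hclass hN] at hm
  rw [hclass hN₀] at h0
  have key : ∀ {H : Type (u + 1)} [AddCommGroup H] (g g₀ P P₀ t t₀ : H) (q : ℤ),
      g - P - q • (g₀ - P₀) = (g - P - t) + (t - q • t₀) - q • (g₀ - P₀ - t₀) := fun _ _ _ _ _ _ _ => by
    simp only [zsmul_sub]
    abel
  refine Eq.mpr (congrArg (· ∈ Fil δ n b (n - 2)) (key (Cyc.toK0CohQuot δ n b (G m)) (Cyc.toK0CohQuot δ n b (G 0))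
    (r • Cyc.toK0CohQuot δ n b N) (r • Cyc.toK0CohQuot δ n b N₀)
    (Cyc.toK0CohQuot δ n b (cokernel φ)) (Cyc.toK0CohQuot δ n b (cokernel φ₀)) ((p : ℤ) ^ m))) ?_
  exact sub_mem (add_mem hm h3) (AddSubgroup.zsmul_mem _ h0 _)

omit [Fact p.Prime] [FrobSch.IsCharP X p] in
/-- A twisted free module mapping isomorphically at the generic point to a coherent module. -/
theorem exists_generic_iso {L L' : X.Modules} (hL : CohB1.IsAmple L)
    (e : CohB1.tensorMod L L' ≅ Coh.structureModule X) (hL' : PicF.IsInvertible L') {E : X.Modules} (hE : Coh.IsCoh E) :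
    ∃ (N : X.Modules), PicF.IsInvertible N ∧
      ∃ φ : CohB1.tensorMod N (FlatMod.freeMod X (Module.finrank (X.presheaf.stalk (genericPoint X))
          (E.presheaf.stalk (genericPoint X)))) ⟶ E, IsIso ((St (genericPoint X)).map φ) := by
  classical
  let η := genericPoint X
  let K := X.presheaf.stalk η
  letI : Field K := inferInstanceAs (Field X.functionField)
  obtain ⟨n', k, p', hp'⟩ := Groth.L18.LefTwists.exists_epi_negPow hL e hE
  let N := CohB1.tensorPow L' n'
  have hN : PicF.IsInvertible N := Groth.L18.Ample.isInvertible_tensorPow hL' n'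
  refine ⟨N, hN, ?_⟩
  let q := (Groth.L00.Tensor.tensorComm N (FlatMod.freeMod X k)).hom ≫ p'
  haveI : Epi q := inferInstanceAs (Epi ((Groth.L00.Tensor.tensorComm N (FlatMod.freeMod X k)).hom ≫ p'))
  let T := (DCoh.tensorBi (X := X)).obj N
  let Φ := T ⋙ St η
  haveI : Φ.Additive := inferInstance
  obtain ⟨e₁, he₁⟩ := Groth.L21.RR.exists_frame_stalk (Groth.L18.GenLoc.isInvertible_tensor hN
    (Groth.L18.Ample.isInvertible_structureModule X)) η
  let ι := fun (r : ℕ) (i : Fin r) => Sigma.ι (fun _ : Fin r => Coh.structureModule X) i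
  let gen : (r : ℕ) → Fin r → Φ.obj (FlatMod.freeMod X r) := fun r i => (Φ.map (ι r i)).hom e₁
  have hgen : ∀ (r : ℕ) (w : Φ.obj (FlatMod.freeMod X r)), ∃ a : Fin r → K, w = ∑ i, a i • gen r i := fun r w => by
    have hid : 𝟙 (FlatMod.freeMod X r) =
        ∑ i, Sigma.π (fun _ : Fin r => Coh.structureModule X) i ≫ ι r i := by
      refine Sigma.hom_ext _ _ fun j => ?_
      rw [Category.comp_id, Preadditive.comp_sum, Finset.sum_eq_single j]
      · rw [Sigma.ι_π_eq_id_assoc]
      · intro i _ hij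
        rw [Sigma.ι_π_of_ne_assoc _ (Ne.symm hij), zero_comp]
      · exact fun h => absurd (Finset.mem_univ _) h
    choose a ha using fun i => he₁.2 ((Φ.map (Sigma.π (fun _ : Fin r => Coh.structureModule X) i)).hom w)
    refine ⟨a, ?_⟩
    have h1 : w = (Φ.map (𝟙 (FlatMod.freeMod X r))).hom w := by rw [Φ.map_id]; rfl
    rw [hid, Φ.map_sum, ModuleCat.hom_sum, LinearMap.sum_apply] at h1
    refine h1.trans (Finset.sum_congr rfl fun i _ => ?_)
    rw [Φ.map_comp, ModuleCat.comp_apply, ← ha i]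
    exact map_smul _ _ _
  let π : Φ.obj (FlatMod.freeMod X k) →ₗ[K] E.presheaf.stalk η := ((St η).map q).hom
  have hπ : Function.Surjective π := (ModuleCat.epi_iff_surjective _).1 inferInstance
  let v : Fin k → E.presheaf.stalk η := fun i => π (gen k i)
  have hv : ⊤ ≤ Submodule.span K (Set.range v) := fun y _ => by
    obtain ⟨w, rfl⟩ := hπ y
    obtain ⟨a, rfl⟩ := hgen k w
    rw [map_sum]
    exact Submodule.sum_mem _ fun i _ => by
      rw [map_smul]; exact Submodule.smul_mem _ _ (Submodule.subset_span ⟨i, rfl⟩)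
  haveI := Groth.L15.Ref.finite_stalk hE η
  obtain ⟨s, hs, hspan, hli⟩ := exists_linearIndependent K (Set.range v)
  haveI : Finite s := ((Set.finite_range v).subset hs).to_subtype
  let bs : Module.Basis s K (E.presheaf.stalk η) :=
    Module.Basis.mk hli (by rw [Subtype.range_coe, hspan]; exact hv)
  haveI := Fintype.ofFinite s
  let r := Module.finrank K (E.presheaf.stalk η)
  let σ₀ : Fin r ≃ s := (Fintype.equivFinOfCardEq (Module.finrank_eq_card_basis bs).symm).symm
  choose σ hσ using fun j : Fin r => hs (σ₀ j).2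
  let s₀ : FlatMod.freeMod X r ⟶ FlatMod.freeMod X k := Sigma.desc fun j => ι k (σ j)
  refine ⟨T.map s₀ ≫ q, (ConcreteCategory.isIso_iff_bijective _).2 ?_⟩
  let ψ : Φ.obj (FlatMod.freeMod X r) →ₗ[K] E.presheaf.stalk η := ((St η).map (T.map s₀ ≫ q)).hom
  have hψ : ∀ j, ψ (gen r j) = bs (σ₀ j) := fun j => by
    show ((St η).map (T.map s₀ ≫ q)).hom ((Φ.map (ι r j)).hom e₁) = _
    have h1 : Φ.map (ι r j) ≫ (St η).map (T.map s₀ ≫ q) = Φ.map (ι k (σ j)) ≫ (St η).map q := by
      rw [Functor.map_comp, ← Category.assoc]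
      refine congrArg (· ≫ (St η).map q) ?_
      show Φ.map (ι r j) ≫ Φ.map s₀ = _
      rw [← Φ.map_comp, Sigma.ι_desc]
    refine (congrArg (fun F => (ModuleCat.Hom.hom F) e₁) h1).trans ?_
    rw [Module.Basis.mk_apply]
    exact hσ j
  show Function.Bijective ψ
  refine ⟨(injective_iff_map_eq_zero _).2 fun w hw => ?_, fun y => ?_⟩
  · obtain ⟨a, rfl⟩ := hgen r w
    rw [map_sum] at hw
    simp only [map_smul, hψ] at hw
    have := Fintype.linearIndependent_iff.1 (bs.linearIndependent.comp σ₀ σ₀.injective) a hw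
    simp [this]
  · refine ⟨∑ j, bs.repr y (σ₀ j) • gen r j, ?_⟩
    rw [map_sum]
    simp only [map_smul, hψ]
    exact (σ₀.sum_comp fun i => bs.repr y i • bs i).trans (bs.sum_repr y)

end Groth.L21.RefK
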