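import Groth.Agent.L21.RefK.Alt
import Groth.Agent.L15.Ref.SPow
import Groth.Agent.L15.CDivNormal
import Groth.Agent.L22.Cyc.Ord
import Groth.Agent.L19.Topology

/-!
Reflexive modules of rank one modulo codimension two; dimension functions on varieties.
-/

set_option autoImplicit false
set_option linter.style.haveILetI false
set_option backward.isDefEq.respectTransparency false
set_option backward.isDefEq.respectTransparency.types false

universe u

open CategoryTheory CategoryTheory.Limits AlgebraicGeometry Groth.L22.LatDeg Groth.L15.Ref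

noncomputable section

namespace Groth.L21.RefK

variable {X : Scheme.{u}} [IsLocallyNoetherian X] [IsIntegral X] {δ : X → ℤ} {n b : ℤ}

omit [IsLocallyNoetherian X] in
theorem le_top_dim (hδ : Cyc.IsDimFun X δ) (x : X) : δ x ≤ δ (genericPoint X) := by
  by_cases h : genericPoint X = x
  · rw [h]
  · exact ((hδ _ x ((genericPoint_spec X).specializes trivial) h).1).le

omit [IsLocallyNoetherian X] [IsIntegral X] in
theorem exists_chain (hδ : Cyc.IsDimFun X δ) (N : ℕ) : ∀ a b : X, a ⤳ b → δ a - δ b = N →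
    letI := specializationOrder X
    ∃ p : LTSeries X, p.head = b ∧ p.last = a ∧ N ≤ p.length := by
  letI := specializationOrder X
  induction N using Nat.strong_induction_on with
  | _ N IH =>
    intro a b hab hN
    by_cases heq : a = b
    · subst heq
      exact ⟨RelSeries.singleton _ a, rfl, rfl, by rw [sub_self] at hN; omega⟩
    by_cases himm : ∀ z : X, a ⤳ z → z ⤳ b → z = a ∨ z = b
    · have h1 := (hδ a b hab heq).2 himm
      have hlt : b < a := lt_of_le_of_ne (show a ⤳ b from hab) (Ne.symm heq)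
      exact ⟨(RelSeries.singleton {q : X × X | q.1 < q.2} b).snoc a hlt, by simp, by simp, by simp; omega⟩
    · push Not at himm
      obtain ⟨z, haz, hzb, hza, hzb'⟩ := himm
      have h1 := (hδ a z haz (Ne.symm hza)).1
      have h2 := (hδ z b hzb hzb').1
      obtain ⟨p, hp0, hp1, hp⟩ := IH (δ z - δ b).toNat (by omega) z b hzb (by omega)
      obtain ⟨q, hq0, hq1, hq⟩ := IH (δ a - δ z).toNat (by omega) a z haz (by omega)
      refine ⟨p.smash q (hp1.trans hq0.symm), by rw [RelSeries.head_smash, hp0], by rw [RelSeries.last_smash, hq1], ?_⟩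
      simp only [RelSeries.smash_length]
      omega

omit [IsLocallyNoetherian X] in
theorem dim_nonneg (hδ : Cyc.IsDimFun X δ) {N : ℕ} (hdim : topologicalKrullDim X = N)
    (hη : δ (genericPoint X) = N) (x : X) : 0 ≤ δ x := by
  letI := specializationOrder X
  obtain ⟨p, -, -, hp⟩ := exists_chain hδ (δ (genericPoint X) - δ x).toNat (genericPoint X) x
    ((genericPoint_spec X).specializes trivial) (by have := le_top_dim hδ x; omega)
  have h2 := Order.LTSeries.length_le_krullDim p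
  rw [Groth.L19.topologicalKrullDim_eq_krullDim] at hdim
  rw [hdim] at h2
  have h3 : p.length ≤ N := by exact_mod_cast h2
  omega

theorem isDVR_stalk (hδ : Cyc.IsDimFun X δ) (hX : Pi1.IsNormalScheme X) (x : X)
    (hx : δ x + 1 = δ (genericPoint X)) : IsDiscreteValuationRing (X.presheaf.stalk x) := by
  haveI := (hX x).1
  haveI := Groth.L22.Cyc.krullDimLE_one_stalk hδ x hx
  refine Groth.L15.CDivLib.isDVR_of_coheight hX ((coheight_eq_one_iff x).1 ?_)
  have hnf : ¬ IsField (X.presheaf.stalk x) := fun hf => by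
    obtain ⟨p, hp⟩ := Groth.L22.Cyc.exists_prime_of_specializes (Groth.L22.Cyc.genericPoint_specializes' x)
    haveI : Subsingleton (PrimeSpectrum (X.presheaf.stalk x)) :=
      (PrimeSpectrum.subsingleton_iff_isField_of_isReduced).2 hf
    have : p = IsLocalRing.closedPoint (X.presheaf.stalk x) := Subsingleton.elim _ _
    rw [this, Scheme.fromSpecStalk_closedPoint] at hp
    rw [← hp] at hx
    omega
  refine le_antisymm ((Ring.krullDimLE_iff).1 inferInstance) ?_
  rcases eq_or_lt_of_le (ringKrullDim_nonneg_of_nontrivial (R := X.presheaf.stalk x)) with h | h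
  · haveI : Ring.KrullDimLE 0 (X.presheaf.stalk x) := Ring.krullDimLE_iff.2 h.ge
    exact absurd (Ring.KrullDimLE.isField_of_isDomain) hnf
  · exact Order.succ_le_of_lt h

/-- Reflexive modules of rank one are free in codimension one. -/
theorem freeFrom_of_isRef1 (hδ : Cyc.IsDimFun X δ) (hX : Pi1.IsNormalScheme X) {F : X.Modules}
    (hF : RefHull.IsRef1 F) {m : ℤ} (hm : δ (genericPoint X) - 1 ≤ m) : FreeFrom δ m F := by
  intro x hx
  by_cases hxη : genericPoint X = x
  · subst hxη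
    exact exists_gen_eta hF.2.2
  have h1 := (hδ _ x ((genericPoint_spec X).specializes trivial) hxη).1
  haveI := isDVR_stalk hδ hX x (by omega)
  haveI : Coh.IsQCoh F := hF.1.1
  haveI := Groth.L15.Ref.isTorsionFree_stalk hF.1 hF.2.1 x
  obtain ⟨t, ht, ht0⟩ := exists_gen_dvr hF x
  refine ⟨t, (injective_iff_map_eq_zero (LinearMap.toSpanSingleton (X.presheaf.stalk x) (F.presheaf.stalk x) t)).2
    fun a ha => ?_, fun v => ?_⟩
  · by_contra ha0
    have : t = 0 := (IsRegular.of_ne_zero ha0).isSMulRegular (show a • t = a • 0 by rw [smul_zero]; exact ha)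
    exact ht0 (by rw [this, map_zero])
  · exact Submodule.mem_span_singleton.1 (ht.ge (Submodule.mem_top (x := v)))

theorem toK0_refTensor (hδ : Cyc.IsSetup X δ) (hX : Pi1.IsNormalScheme X) (hη : δ (genericPoint X) = n)
    (hb : n - 2 ≤ b) {ℒ₁ ℒ₂ : X.Modules} (h₁ : RefHull.IsRef1 ℒ₁) (h₂ : RefHull.IsRef1 ℒ₂) :
    Cyc.toK0CohQuot δ n b (CohB1.tensorMod ℒ₁ ℒ₂) = Cyc.toK0CohQuot δ n b (RefPow.refTensor ℒ₁ ℒ₂) := by
  have hle : ∀ x, δ x ≤ n := fun x => hη ▸ le_top_dim hδ.2.2 x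
  have hT := Groth.L15.Ref.isCoh_tensorMod h₁.1 h₂.1
  refine toK0_eq_of_bijective (RefHull.bidualMap _) ⟨hT, fun x _ => hle x⟩
    ⟨(isRef1_refTensor h₁ h₂).1, fun x _ => hle x⟩ fun x hx => ?_
  obtain ⟨e, he⟩ := freeFrom_of_isRef1 hδ.2.2 hX h₁ (m := b + 1) (by omega) x (by omega)
  obtain ⟨e', he'⟩ := freeFrom_of_isRef1 hδ.2.2 hX h₂ (m := b + 1) (by omega) x (by omega)
  let E : (CohB1.tensorMod ℒ₁ ℒ₂).presheaf.stalk x ≃ₗ[X.presheaf.stalk x] X.presheaf.stalk x :=
    (LinearEquiv.ofBijective (LinearMap.toSpanSingleton _ _ _) (bijective_smul_tst he he')).symm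
  haveI : Module.Free (X.presheaf.stalk x) ((CohB1.tensorMod ℒ₁ ℒ₂).presheaf.stalk x) := Module.Free.of_equiv E.symm
  haveI : Module.Finite (X.presheaf.stalk x) ((CohB1.tensorMod ℒ₁ ℒ₂).presheaf.stalk x) := Module.Finite.equiv E.symm
  exact bidual_bijective_of_reflexiveAt hT x
    (show Module.IsReflexive (X.presheaf.stalk x) ((CohB1.tensorMod ℒ₁ ℒ₂).presheaf.stalk x) from inferInstance)

/-- `[ℒ] ≡ [O]` modulo dimension `n - 1`. -/
theorem sub_mem_Fil_of_isRef1 (hδ : Cyc.IsSetup X δ) (hX : Pi1.IsNormalScheme X) (hη : δ (genericPoint X) = n)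
    {ℒ : X.Modules} (hℒ : RefHull.IsRef1 ℒ) :
    Cyc.toK0CohQuot δ n b (Coh.structureModule X) - Cyc.toK0CohQuot δ n b ℒ ∈ Fil δ n b (n - 1) := by
  have hle : ∀ x, δ x ≤ n := fun x => hη ▸ le_top_dim hδ.2.2 x
  have hO : Coh.IsCoh (Coh.structureModule X) :=
    Groth.L16.ProperFinite.isCoh_of_isInvertible (Groth.L18.Ample.isInvertible_structureModule X)
  have h := tensor_sub_mem_Fil (b := b) hδ le_rfl hℒ.1 (freeFrom_of_isRef1 hδ.2.2 hX hℒ (m := n) (by omega))
    (A := Coh.structureModule X) ⟨hO, fun x _ => hle x⟩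
  rw [toK0_iso (Groth.L00.Tensor.tensorUnitRight ℒ)
    ⟨Groth.L15.Ref.isCoh_tensorMod hℒ.1 hO, fun x _ => hle x⟩, ← neg_mem_iff, neg_sub] at h
  exact h

/-- `[ℒ₁ ⊗̂ ℒ₂] + [O] = [ℒ₁] + [ℒ₂]` modulo dimension `n - 2`. -/
theorem toK0_refTensor_add (hδ : Cyc.IsSetup X δ) (hX : Pi1.IsNormalScheme X) (hη : δ (genericPoint X) = n)
    (hb : b = n - 2) {ℒ₁ ℒ₂ : X.Modules} (h₁ : RefHull.IsRef1 ℒ₁) (h₂ : RefHull.IsRef1 ℒ₂) :
    Cyc.toK0CohQuot δ n b (RefPow.refTensor ℒ₁ ℒ₂) + Cyc.toK0CohQuot δ n b (Coh.structureModule X) =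
      Cyc.toK0CohQuot δ n b ℒ₁ + Cyc.toK0CohQuot δ n b ℒ₂ := by
  have hle : ∀ x, δ x ≤ n := fun x => hη ▸ le_top_dim hδ.2.2 x
  have hO : Coh.IsCoh (Coh.structureModule X) :=
    Groth.L16.ProperFinite.isCoh_of_isInvertible (Groth.L18.Ample.isInvertible_structureModule X)
  have hf := freeFrom_of_isRef1 hδ.2.2 hX h₁ (m := b + 1) (by omega)
  let ψ : KZero.K0sub (Cyc.CohLe δ n) →+ Cyc.K0CohQuot δ n b := twHom h₁.1 hf - QuotientAddGroup.mk' _
  have hψ : ∀ A, Coh.IsCoh A → ψ (KZero.clSub (Cyc.CohLe δ n) A) =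
      Cyc.toK0CohQuot δ n b (CohB1.tensorMod ℒ₁ A) - Cyc.toK0CohQuot δ n b A := fun A hA => by
    rw [AddMonoidHom.sub_apply, twHom_clSub h₁.1 hf ⟨hA, fun x _ => hle x⟩]
    rfl
  have h0 : ∀ z ∈ AddSubgroup.closure
      {c : KZero.K0sub (Cyc.CohLe δ n) | ∃ F : X.Modules, Cyc.CohLe δ (n - 1) F ∧ c = KZero.clSub (Cyc.CohLe δ n) F},
      ψ z = 0 := by
    intro z hz
    induction hz using AddSubgroup.closure_induction with
    | mem c hc =>
      obtain ⟨F, hF, rfl⟩ := hc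
      have h := tensor_sub_mem_Fil (b := b) hδ (show n - 1 ≤ n by omega) h₁.1
        (freeFrom_of_isRef1 hδ.2.2 hX h₁ (m := n - 1) (by omega)) hF
      rw [Fil_le_bot (show n - 1 - 1 ≤ b by omega), AddSubgroup.mem_bot] at h
      rw [hψ F hF.1, h]
    | zero => rw [map_zero]
    | add c d _ _ hc hd => rw [map_add, hc, hd, add_zero]
    | neg c _ hc => rw [map_neg, hc, neg_zero]
  have h3 := sub_mem_Fil_of_isRef1 (b := n - 1) hδ hX hη h₂
  rw [Fil_le_bot le_rfl, AddSubgroup.mem_bot] at h3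
  have h4 := h0 _ ((QuotientAddGroup.eq_zero_iff _).1
    (show (QuotientAddGroup.mk (KZero.clSub (Cyc.CohLe δ n) (Coh.structureModule X) - KZero.clSub (Cyc.CohLe δ n) ℒ₂) :
      Cyc.K0CohQuot δ n (n - 1)) = 0 from h3))
  rw [map_sub, hψ _ hO, hψ _ h₂.1, toK0_iso (Groth.L00.Tensor.tensorUnitRight ℒ₁)
    ⟨Groth.L15.Ref.isCoh_tensorMod h₁.1 hO, fun x _ => hle x⟩,
    toK0_refTensor hδ hX hη (by omega) h₁ h₂] at h4
  rw [← sub_eq_zero]
  calc _ = -((Cyc.toK0CohQuot δ n b ℒ₁ - Cyc.toK0CohQuot δ n b (Coh.structureModule X)) -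
        (Cyc.toK0CohQuot δ n b (RefPow.refTensor ℒ₁ ℒ₂) - Cyc.toK0CohQuot δ n b ℒ₂)) := by abel
    _ = 0 := by rw [h4, neg_zero]

end Groth.L21.RefK
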